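import Mathlib

/-!
# The involutions centralising an element of order eleven
-/

set_option autoImplicit false
set_option linter.unusedSectionVars false

namespace Cfsg.Agent.Lib.J4Pgl

variable {G : Type*} [Group G]

/-- What is used about `y`, `d`, `w`. -/
structure Eleven (y d w : G) : Prop where
  ord : orderOf y = 11
  d2 : d * d = 1
  d1 : d ≠ 1
  dy : Commute d y
  w2 : w * w = 1
  wy : w * y * w = y⁻¹
  wd : Commute w d
  fix : ∀ g, Commute g y → Commute g d → g ∈ Subgroup.zpowers y ∨ g * d ∈ Subgroup.zpowers y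
  sylow : 11 ^ 2 ∣ Nat.card ↥(Subgroup.centralizer ({y} : Set G)) ∧
    ¬ 11 ^ 3 ∣ Nat.card ↥(Subgroup.centralizer ({y} : Set G))
  small : ∀ q : ℕ, q.Prime → q ≠ 2 → q ≠ 11 → ∀ o i : G, orderOf o = q → Commute o y →
    i * i = 1 → i ≠ 1 → Commute o i → False

variable {y d w : G}

theorem mem_cy {g : G} : g ∈ Subgroup.centralizer ({y} : Set G) ↔ Commute g y :=
  Subgroup.mem_centralizer_singleton_iff

theorem Eleven.pow_y (E : Eleven y d w) {g : G} (h : g ∈ Subgroup.zpowers y) : g ^ 11 = 1 := by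
  obtain ⟨i, rfl⟩ := h
  rw [← zpow_natCast, ← zpow_mul, mul_comm, zpow_mul, zpow_natCast, ← E.ord, pow_orderOf_eq_one,
    one_zpow]

theorem eq_one_of_coprime {g : G} {a b : ℕ} (ha : g ^ a = 1) (hb : g ^ b = 1)
    (h : Nat.Coprime a b) : g = 1 :=
  (pow_one g).symm.trans (h.gcd_eq_one ▸ pow_gcd_eq_one.mpr ⟨ha, hb⟩)

theorem Eleven.d_conj (E : Eleven y d w) : d⁻¹ = d := inv_eq_of_mul_eq_one_right E.d2

theorem Eleven.w_inv (E : Eleven y d w) : w⁻¹ = w := inv_eq_of_mul_eq_one_right E.w2

theorem Eleven.w_ne_one (E : Eleven y d w) : w ≠ 1 := fun h => by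
  have h1 := E.wy
  rw [h, one_mul, mul_one] at h1
  have h2 : y ^ 2 = 1 := by
    rw [pow_two]
    nth_rw 2 [h1]
    exact mul_inv_cancel y
  have := orderOf_dvd_of_pow_eq_one h2
  rw [E.ord] at this
  exact absurd (Nat.le_of_dvd two_pos this) (by norm_num)

theorem Eleven.dw_ne_one (E : Eleven y d w) : d * w ≠ 1 := fun h => by
  have hw : w = d := by
    rw [← E.d_conj]; exact eq_inv_of_mul_eq_one_right h
  have h1 := E.wy
  rw [hw, E.dy.eq, mul_assoc, E.d2, mul_one] at h1
  have h2 : y ^ 2 = 1 := by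
    rw [pow_two]
    nth_rw 2 [h1]
    exact mul_inv_cancel y
  have := orderOf_dvd_of_pow_eq_one h2
  rw [E.ord] at this
  exact absurd (Nat.le_of_dvd two_pos this) (by norm_num)

variable [Finite G]

theorem Eleven.exists_odd (E : Eleven y d w) : ∃ O : Subgroup G,
    O ≤ Subgroup.centralizer ({y} : Set G) ∧ Odd (Nat.card ↥O) ∧
    2 * Nat.card ↥O = Nat.card ↥(Subgroup.centralizer ({y} : Set G)) ∧
    (∀ g, Commute g y → Odd (orderOf g) → g ∈ O) ∧
    ∀ g, Commute g y → g ∈ O ∨ g * d ∈ O := by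
  set C := Subgroup.centralizer ({y} : Set G)
  haveI := Fact.mk Nat.prime_two
  let dC : ↥C := ⟨d, mem_cy.mpr E.dy⟩
  have hd : orderOf dC = 2 := orderOf_eq_prime
    (Subtype.ext (by simp [pow_two, dC, E.d2])) (fun h => E.d1 (congrArg Subtype.val h))
  obtain ⟨P, hP⟩ := (IsPGroup.of_card (p := 2) (n := 1)
    (by rw [Nat.card_zpowers, hd, pow_one]) : IsPGroup 2 ↥(Subgroup.zpowers dC)).exists_le_sylow
  have hdP : dC ∈ (P : Subgroup ↥C) := hP (Subgroup.mem_zpowers dC)
  have hfix : ∀ g : ↥C, (g : G) * d = d * g → g ∈ (P : Subgroup ↥C) → g = 1 ∨ g = dC := by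
    intro g hg hgP
    obtain ⟨k, hk⟩ := P.2 ⟨g, hgP⟩
    have hk' : (g : G) ^ 2 ^ k = 1 := by
      have := congrArg (fun x : ↥(P : Subgroup ↥C) => ((x : ↥C) : G)) hk
      simpa using this
    rcases E.fix g (mem_cy.mp g.2) hg with h | h
    · exact Or.inl (Subtype.ext (eq_one_of_coprime hk' (E.pow_y h)
        (Nat.Coprime.pow_left k (by norm_num))))
    · refine Or.inr (Subtype.ext ?_)
      have h2 : ((g : G) * d) ^ 2 ^ (k + 1) = 1 := by
        rw [(show Commute (g : G) d from hg).mul_pow, pow_succ, pow_mul, hk', one_pow, one_mul,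
          mul_comm (2 ^ k), pow_mul, pow_two, E.d2, one_pow]
      have := eq_one_of_coprime h2 (E.pow_y h) (Nat.Coprime.pow_left _ (by norm_num))
      show (g : G) = d
      rw [← E.d_conj]; exact eq_inv_of_mul_eq_one_left this
  have hcentral : ∀ g : ↥(P : Subgroup ↥C), (g : ↥C) = 1 ∨ (g : ↥C) = dC := by
    haveI : Nontrivial ↥(P : Subgroup ↥C) := ⟨⟨1, ⟨dC, hdP⟩, fun h =>
      E.d1 (congrArg (fun x : ↥(P : Subgroup ↥C) => ((x : ↥C) : G)) h).symm⟩⟩
    haveI := P.2.center_nontrivial
    obtain ⟨⟨c, hc⟩, hc1⟩ := exists_ne (1 : ↥(Subgroup.center ↥(P : Subgroup ↥C)))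
    rw [Subgroup.mem_center_iff] at hc
    have hcd : ((c : ↥C) : G) * d = d * (c : ↥C) :=
      congrArg (fun x : ↥(P : Subgroup ↥C) => ((x : ↥C) : G)) (hc ⟨dC, hdP⟩).symm
    have hcdC : (c : ↥C) = dC := (hfix c hcd c.2).resolve_left fun h =>
      hc1 (Subtype.ext (Subtype.ext h))
    intro g
    refine hfix g ?_ g.2
    have := congrArg (fun x : ↥(P : Subgroup ↥C) => ((x : ↥C) : G)) (hc g)
    simpa [hcdC, dC] using this
  have hPd : (P : Subgroup ↥C) = Subgroup.zpowers dC := by
    refine le_antisymm (fun g hg => ?_) hP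
    rcases hcentral ⟨g, hg⟩ with h | h
    · rw [show g = 1 from h]; exact one_mem _
    · rw [show g = dC from h]; exact Subgroup.mem_zpowers _
  have hcomm : Subgroup.normalizer ((P : Subgroup ↥C) : Set ↥C) ≤
      Subgroup.centralizer ((P : Subgroup ↥C) : Set ↥C) := by
    intro n hn
    rw [Subgroup.mem_centralizer_iff]
    intro g hg
    rcases hcentral ⟨g, hg⟩ with h | h
    · rw [show g = 1 from h, one_mul, mul_one]
    · rw [show g = dC from h]
      rcases hcentral ⟨_, (Subgroup.mem_normalizer_iff.mp hn dC).mp hdP⟩ with h' | h'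
      · exact absurd (congrArg Subtype.val (conj_eq_one_iff.mp h')) E.d1
      · exact (mul_inv_eq_iff_eq_mul.mp h').symm
  set K := (MonoidHom.transferSylow P hcomm).ker
  have hK := MonoidHom.ker_transferSylow_isComplement' P hcomm
  have hcard := hK.card_mul
  have hPcard : Nat.card ↥(P : Subgroup ↥C) = 2 := by rw [hPd, Nat.card_zpowers, hd]
  rw [hPcard] at hcard
  have hKodd : Odd (Nat.card ↥K) := Nat.not_even_iff_odd.mp fun h =>
    MonoidHom.not_dvd_card_ker_transferSylow P hcomm h.two_dvd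
  have hidx : K.index = 2 := hK.symm.index_eq_card.trans hPcard
  have hdK : dC ∉ K := fun h => by
    have := Subgroup.orderOf_dvd_natCard K h
    rw [hd] at this
    exact (Nat.not_even_iff_odd.mpr hKodd) (even_iff_two_dvd.mpr this)
  refine ⟨K.map C.subtype, Subgroup.map_subtype_le K, ?_, ?_, ?_, ?_⟩
  · rwa [Subgroup.card_map_of_injective C.subtype_injective]
  · rw [Subgroup.card_map_of_injective C.subtype_injective, mul_comm]
    exact hcard
  · intro g hg ho
    refine ⟨⟨g, mem_cy.mpr hg⟩, ?_, rfl⟩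
    obtain ⟨k, hk⟩ := ho
    have h2 : (⟨g, mem_cy.mpr hg⟩ : ↥C) ^ 2 ∈ K := Subgroup.sq_mem_of_index_two hidx _
    have h3 := pow_mem h2 (k + 1)
    rw [← pow_mul, show 2 * (k + 1) = orderOf g + 1 by rw [hk]; ring, pow_succ] at h3
    rwa [show (⟨g, mem_cy.mpr hg⟩ : ↥C) ^ orderOf g = 1 from Subtype.ext (pow_orderOf_eq_one g),
      one_mul] at h3
  · intro g hg
    by_cases h : (⟨g, mem_cy.mpr hg⟩ : ↥C) ∈ K
    · exact Or.inl ⟨_, h, rfl⟩
    · refine Or.inr ⟨⟨g, mem_cy.mpr hg⟩ * dC, ?_, rfl⟩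
      exact (Subgroup.mul_mem_iff_of_index_two hidx).mpr (iff_of_false h hdK)

theorem exists_root {r : G} {k : ℕ} (h : orderOf r = 2 * k + 1) : r ^ (k + 1) * r ^ (k + 1) = r := by
  rw [← pow_add, show k + 1 + (k + 1) = orderOf r + 1 by rw [h]; ring, pow_succ, pow_orderOf_eq_one,
    one_mul]

/-- An involution commuting with `y` commutes with `w` or with `d w`. -/
theorem Eleven.commute_or (E : Eleven y d w) {s : G} (hs : s * s = 1) (hs1 : s ≠ 1)
    (hsy : Commute s y) : Commute s w ∨ Commute s (d * w) := by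
  obtain ⟨O, hOC, hOodd, hcard, hin, hdec⟩ := E.exists_odd
  have hdi := E.d_conj
  have hOy : ∀ o ∈ O, Commute o y := fun o ho => mem_cy.mp (hOC ho)
  have hordO : ∀ o ∈ O, Odd (orderOf o) := fun o ho =>
    Odd.of_dvd_nat hOodd (Subgroup.orderOf_dvd_natCard O ho)
  have hconj : ∀ a : G, a * a = 1 → ∀ g : G, orderOf (a * g * a) = orderOf g := fun a ha g => by
    have := MulEquiv.orderOf_eq (MulAut.conj a) g
    simpa [inv_eq_of_mul_eq_one_right ha] using this
  have hOd : ∀ o ∈ O, d * o * d ∈ O := fun o ho =>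
    hin _ ((E.dy.mul_left (hOy o ho)).mul_left E.dy) ((hconj d E.d2 o).symm ▸ hordO o ho)
  have hOw : ∀ o ∈ O, w * o * w ∈ O := fun o ho => by
    refine hin _ ?_ ((hconj w E.w2 o).symm ▸ hordO o ho)
    have h := (hOy o ho).inv_right.map (MulAut.conj w)
    simp only [MulAut.conj_apply, E.w_inv, map_inv, E.wy, inv_inv] at h
    exact h
  -- decomposition
  have hY : ∀ o ∈ O, Commute o d → o ∈ Subgroup.zpowers y := fun o ho hod => by
    refine (E.fix o (hOy o ho) hod).resolve_right fun h => ?_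
    obtain ⟨k, hk⟩ := hordO o ho
    have h1 : (o * d) ^ (2 * k + 1) = d := by
      rw [hod.mul_pow, ← hk, pow_orderOf_eq_one, one_mul, hk, pow_succ, pow_mul, pow_two, E.d2,
        one_pow, one_mul]
    have h2 : d ^ 11 = 1 := E.pow_y (h1 ▸ pow_mem h _)
    exact E.d1 (eq_one_of_coprime h2 (by rw [pow_two, E.d2] : d ^ 2 = 1) (by norm_num))
  have hsplit : ∀ o ∈ O, ∃ r ∈ O, d * r * d = r⁻¹ ∧ ∃ i ∈ Subgroup.zpowers y, o = i * r := by
    intro o ho
    set u := o⁻¹ * (d * o * d) with hu
    have huO : u ∈ O := mul_mem (inv_mem ho) (hOd o ho)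
    have hud : d * u * d = u⁻¹ := by
      rw [hu, show d * (o⁻¹ * (d * o * d)) * d = d * o⁻¹ * d * o * (d * d) by group, E.d2, mul_one]
      simp [hdi, mul_assoc]
    obtain ⟨k, hk⟩ := hordO u huO
    have hr := exists_root hk
    set r := u ^ (k + 1) with hrdef
    have hrd : d * r * d = r⁻¹ := by
      have := (conj_pow (i := k + 1) (a := d) (b := u))
      rw [hdi, hud] at this
      rw [hrdef, ← inv_pow, ← this]
    have hc : Commute (o * r) d := by
      have e : d * (o * r) * d = o * r := by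
        rw [show d * (o * r) * d = (d * o * d) * (d⁻¹ * r * d) by group, hdi, hrd,
          show d * o * d = o * u by rw [hu]; group, ← hr]
        group
      show o * r * d = d * (o * r)
      conv_lhs => rw [← e]
      rw [mul_assoc (d * (o * r)) d d, E.d2, mul_one]
    refine ⟨r⁻¹, inv_mem (pow_mem huO _), ?_, o * r,
      hY _ (mul_mem ho (pow_mem huO _)) hc, by group⟩
    rw [inv_inv]
    calc d * r⁻¹ * d = (d * r * d)⁻¹ := by simp [hdi, mul_assoc]
      _ = r := by rw [hrd, inv_inv]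
  have hinv : ∀ i ∈ Subgroup.zpowers y, i * i = 1 → i = 1 := fun i hi h =>
    eq_one_of_coprime (E.pow_y hi) (by rw [pow_two, h] : i ^ 2 = 1) (by norm_num)
  have hcentY : ∀ o ∈ O, ∀ i ∈ Subgroup.zpowers y, Commute o i := by
    rintro o ho _ ⟨k, rfl⟩
    exact (hOy o ho).zpow_right k
  have hdY : ∀ i ∈ Subgroup.zpowers y, d * i * d = i := by
    rintro _ ⟨k, rfl⟩
    rw [(E.dy.zpow_right k).eq, mul_assoc, E.d2, mul_one]
  -- only the prime eleven
  have hprimes : ∀ q, q.Prime → q ∣ Nat.card ↥O → q = 11 := by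
    intro q hq hdvd
    by_contra h11
    have hq2 : q ≠ 2 := fun h => Nat.not_even_iff_odd.mpr hOodd (even_iff_two_dvd.mpr (h ▸ hdvd))
    haveI := Fact.mk hq
    have hcq : Nat.Coprime 11 q := (Nat.coprime_primes (by norm_num) hq).mpr (Ne.symm h11)
    obtain ⟨o', ho'⟩ := exists_prime_orderOf_dvd_card' (G := ↥O) q hdvd
    obtain ⟨o, ho⟩ := o'
    rw [Subgroup.orderOf_mk] at ho'
    have hqinv : ∀ v ∈ O, v ^ q = 1 → d * v * d = v⁻¹ := by
      intro v hv hvq
      obtain ⟨r, hr, hrd, i, hi, rfl⟩ := hsplit v hv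
      have hdv : d * (i * r) * d = i * r⁻¹ := by
        rw [show d * (i * r) * d = d * i * d⁻¹ * (d * r * d) by group, hdi, hdY i hi, hrd]
      have hiq : (i * i) ^ q = 1 := by
        have h1 : (d * (i * r) * d) ^ q = 1 := by
          have := (conj_pow (i := q) (a := d) (b := i * r))
          rw [hdi] at this
          rw [this, hvq, mul_one, E.d2]
        rw [hdv, (hcentY r hr i hi).inv_left.symm.mul_pow] at h1
        rw [(hcentY r hr i hi).symm.mul_pow] at hvq
        calc (i * i) ^ q = i ^ q * r ^ q * (i ^ q * r⁻¹ ^ q) := by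
              rw [inv_pow, (Commute.refl i).mul_pow]
              have := ((hcentY r hr i hi).pow_pow q q).eq
              rw [show i ^ q * r ^ q * (i ^ q * (r ^ q)⁻¹) = i ^ q * (r ^ q * i ^ q) * (r ^ q)⁻¹ by group,
                this]
              group
          _ = 1 := by rw [h1, hvq, one_mul]
      have hi2 : i * i = 1 := eq_one_of_coprime (E.pow_y (mul_mem hi hi)) hiq hcq
      simp only [hinv i hi hi2, one_mul] at hdv ⊢
      exact hdv
    set o2 := w * o * w with ho2
    have ho2O : o2 ∈ O := hOw o ho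
    have hoq : o ^ q = 1 := ho' ▸ pow_orderOf_eq_one o
    have ho2q : o2 ^ q = 1 := by rw [← ho', ← hconj w E.w2 o]; exact pow_orderOf_eq_one _
    have hd1 := hqinv o ho hoq
    have hd2 := hqinv o2 ho2O ho2q
    have hcom : Commute o o2 := by
      obtain ⟨r, hr, hrd, i, hi, hoi⟩ := hsplit (o * o2) (mul_mem ho ho2O)
      -- the commutator is a central element of exponent dividing `q`
      have e1 : o⁻¹ * o2⁻¹ = i * r⁻¹ := by
        rw [← hd1, ← hd2, show d * o * d * (d * o2 * d) = d * (o * ((d * d) * o2)) * d by group,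
          E.d2, one_mul, hoi, show d * (i * r) * d = d * i * d⁻¹ * (d * r * d) by group, hdi,
          hdY i hi, hrd]
      set c := i * i with hc
      have hcy : c ∈ Subgroup.zpowers y := mul_mem hi hi
      have hir := (hcentY r hr i hi).eq
      have e2 : o * o2 = c * (o2 * o) := by
        have e3 : o2 * o = r * i⁻¹ := by
          have := congrArg (·⁻¹) e1
          simpa [mul_inv_rev] using this
        rw [e3, hoi, hc, ← mul_assoc (i * i), mul_assoc i i r, ← hir, mul_assoc i (r * i) i⁻¹,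
          mul_inv_cancel_right]
        exact hir
      have e4 : o * o2 * o⁻¹ = c * o2 := by rw [e2]; group
      have e5 : c ^ q = 1 := by
        have h1 := congrArg (· ^ q) e4
        simp only [conj_pow, ho2q, mul_one, mul_inv_cancel] at h1
        rw [(hcentY o2 ho2O c hcy).symm.mul_pow, ho2q, mul_one] at h1
        exact h1.symm
      show o * o2 = o2 * o
      rw [e2, eq_one_of_coprime (E.pow_y hcy) e5 hcq, one_mul]
    by_cases h : o * o2 = 1
    · refine E.small q hq hq2 h11 o (d * w) ho' (hOy o ho) ?_ E.dw_ne_one ?_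
      · rw [show d * w * (d * w) = d * (w * d) * w by group, E.wd.eq,
          show d * (d * w) * w = d * d * (w * w) by group, E.d2, E.w2, one_mul]
      · have e : w * o * w = o⁻¹ := eq_inv_of_mul_eq_one_right h
        have e' : w * o = o⁻¹ * w := by rw [← e, mul_assoc, E.w2, mul_one]
        have e'' : d * o⁻¹ = o * d := by
          rw [← hd1, ← mul_assoc, ← mul_assoc, E.d2, one_mul]
        show o * (d * w) = d * w * o
        rw [mul_assoc d w o, e', ← mul_assoc, ← mul_assoc, e'']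
    · refine E.small q hq hq2 h11 (o * o2) w
        (orderOf_eq_prime (by rw [hcom.mul_pow, hoq, ho2q, one_mul]) h)
        ((hOy o ho).mul_left (hOy o2 ho2O)) E.w2 E.w_ne_one ?_
      show o * o2 * w = w * (o * o2)
      rw [hcom.eq, ho2, show w * o * w * o * w = w * o * (w * o * w) by group, ← ho2, ← hcom.eq,
        mul_assoc]
  -- the order is 121
  have hO : Nat.card ↥O = 11 ^ 2 := by
    obtain ⟨n, hn⟩ : ∃ n, Nat.card ↥O = 11 ^ n :=
      ⟨_, Nat.eq_prime_pow_of_unique_prime_dvd Nat.card_pos.ne' fun hq hd => hprimes _ hq hd⟩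
    obtain ⟨h2, h3⟩ := E.sylow
    rw [← hcard, hn] at h2 h3
    have hc2 : Nat.Coprime (11 ^ 2) 2 := by norm_num
    have := (Nat.pow_dvd_pow_iff_le_right (by norm_num : 1 < 11)).mp (hc2.dvd_of_dvd_mul_left h2)
    have : ¬ 3 ≤ n := fun h => h3 (Dvd.dvd.mul_left (pow_dvd_pow 11 h) 2)
    rw [hn, show n = 2 by omega]
  have hyO : y ∈ O := hin y (Commute.refl y) (by rw [E.ord]; decide)
  obtain ⟨c, hcO, hcd, hc1⟩ : ∃ c ∈ O, d * c * d = c⁻¹ ∧ c ≠ 1 := by
    obtain ⟨o, ho, hne⟩ : ∃ o ∈ O, o ∉ Subgroup.zpowers y := by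
      by_contra hall
      push Not at hall
      have := Subgroup.card_dvd_of_le (show O ≤ Subgroup.zpowers y from hall)
      rw [hO, Nat.card_zpowers, E.ord] at this
      norm_num at this
    obtain ⟨r, hr, hrd, i, hi, rfl⟩ := hsplit o ho
    exact ⟨r, hr, hrd, fun h => hne (by rw [h, mul_one]; exact hi)⟩
  have hcY : c ∉ Subgroup.zpowers y := fun h => by
    have e := hdY c h
    rw [hcd] at e
    exact hc1 (hinv c h (inv_eq_iff_mul_eq_one.mp e))
  have hgen : ∀ r ∈ O, d * r * d = r⁻¹ → r ∈ Subgroup.zpowers c := by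
    intro r hr hrd
    have hsup : Subgroup.zpowers y ⊔ Subgroup.zpowers c = O := by
      refine Subgroup.eq_of_le_of_card_ge (sup_le (Subgroup.zpowers_le.mpr hyO)
        (Subgroup.zpowers_le.mpr hcO)) ?_
      have h1 := Subgroup.card_dvd_of_le (show Subgroup.zpowers y ⊔ Subgroup.zpowers c ≤ O from
        sup_le (Subgroup.zpowers_le.mpr hyO) (Subgroup.zpowers_le.mpr hcO))
      have h2 := Subgroup.card_dvd_of_le (le_sup_left (b := Subgroup.zpowers c) :
        Subgroup.zpowers y ≤ _)
      rw [hO] at h1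
      rw [Nat.card_zpowers, E.ord] at h2
      obtain ⟨m, hm, he⟩ := (Nat.dvd_prime_pow (by norm_num : Nat.Prime 11)).mp h1
      interval_cases m
      · rw [he] at h2; norm_num at h2
      · exfalso
        have := Subgroup.eq_of_le_of_card_ge (le_sup_left (b := Subgroup.zpowers c) :
          Subgroup.zpowers y ≤ _) (by rw [he, Nat.card_zpowers, E.ord, pow_one])
        exact hcY (this ▸ Subgroup.mem_sup_right (Subgroup.mem_zpowers c))
      · rw [hO, he]
    rw [← hsup, ← SetLike.mem_coe, Subgroup.coe_mul_of_right_le_normalizer_left] at hr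
    · obtain ⟨i, hi, _, ⟨k, rfl⟩, rfl⟩ := hr
      simp only at hrd ⊢
      have hck : d * c ^ k * d = (c ^ k)⁻¹ := by
        have := (conj_zpow (i := k) (a := d) (b := c))
        rw [hdi, hcd, inv_zpow] at this
        exact this.symm
      have hik := (hcentY (c ^ k) (zpow_mem hcO k) i hi).eq
      rw [show d * (i * c ^ k) * d = d * i * d⁻¹ * (d * c ^ k * d) by group, hdi, hdY i hi, hck,
        mul_inv_rev, hik.symm |> fun _ => (hcentY (c ^ k) (zpow_mem hcO k) i⁻¹ (inv_mem hi)).inv_left.eq]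
        at hrd
      have := mul_right_cancel hrd
      rw [hinv i hi (by nth_rw 2 [this]; exact mul_inv_cancel i), one_mul]
      exact ⟨k, rfl⟩
    · intro g hg
      obtain ⟨k, rfl⟩ := hg
      exact Subgroup.centralizer_le_normalizer _ (Subgroup.mem_centralizer_iff.mpr fun a ha =>
        ((hcentY (c ^ k) (zpow_mem hcO k) a ha).eq).symm)
  have hc11 : orderOf c = 11 := by
    obtain ⟨j, hj, hord⟩ := (Nat.dvd_prime_pow (by norm_num : Nat.Prime 11)).mp
      (hO ▸ Subgroup.orderOf_dvd_natCard O hcO)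
    interval_cases j
    · exact absurd (orderOf_eq_one_iff.mp (hord.trans (pow_zero 11))) hc1
    · rw [hord, pow_one]
    · exfalso
      have hz : Subgroup.zpowers c = O := Subgroup.eq_of_le_of_card_ge
        (Subgroup.zpowers_le.mpr hcO) (by rw [hO, Nat.card_zpowers, hord])
      obtain ⟨m, hm⟩ : y ∈ Subgroup.zpowers c := hz ▸ hyO
      have h1 : d * c ^ m * d = (c ^ m)⁻¹ := by
        have := (conj_zpow (i := m) (a := d) (b := c))
        rw [hdi, hcd, inv_zpow] at this
        exact this.symm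
      simp only at hm
      rw [hm, hdY y (Subgroup.mem_zpowers y)] at h1
      have := hinv y (Subgroup.mem_zpowers y) (by nth_rw 2 [h1]; exact mul_inv_cancel y)
      have h11 := E.ord
      rw [this, orderOf_one] at h11
      norm_num at h11
  -- `s = r d`
  have hsd : s * d ∈ O := (hdec s hsy).resolve_left fun h => by
    have := hordO s h
    rw [orderOf_eq_prime (p := 2) (by rw [pow_two, hs]) hs1] at this
    exact absurd this (by decide)
  obtain ⟨r, hr, hrd, i, hi, hsi⟩ := hsplit _ hsd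
  have hs' : s = i * r * d := by rw [← hsi, mul_assoc, E.d2, mul_one]
  have hi1 : i = 1 := by
    refine hinv i hi ?_
    have h := hs
    rw [hs', show i * r * d * (i * r * d) = i * r * (d * i * d⁻¹) * (d * r * d) by group, hdi,
      hdY i hi, hrd, mul_assoc i r i, (hcentY r hr i hi).eq, ← mul_assoc,
      mul_inv_cancel_right] at h
    exact h
  obtain ⟨j, rfl⟩ := hgen r hr hrd
  rw [hi1, one_mul] at hs'
  subst hs'
  have hwc : d * (w * c * w) * d = (w * c * w)⁻¹ := by
    calc d * (w * c * w) * d = d * w * c * (w * d) := by group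
      _ = w * d * c * (d * w) := by rw [E.wd.eq]
      _ = w * (d * c * d) * w := by group
      _ = (w * c * w)⁻¹ := by rw [hcd, mul_inv_rev, mul_inv_rev, E.w_inv, mul_assoc]
  obtain ⟨k, hk⟩ := hgen _ (hOw c hcO) hwc
  simp only at hk
  have hk2 : c ^ (k * k) = c ^ (1 : ℤ) := by
    have := (conj_zpow (i := k) (a := w) (b := c))
    rw [E.w_inv] at this
    rw [zpow_mul, hk, this, hk, zpow_one,
      show w * (w * c * w) * w = w * w * c * (w * w) by group, E.w2, one_mul, mul_one]
  rw [zpow_eq_zpow_iff_modEq, hc11] at hk2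
  have hfac : ((11 : ℕ) : ℤ) ∣ (k - 1) * (k + 1) := by
    have := (Int.modEq_iff_dvd).mp hk2
    rw [show (k - 1) * (k + 1) = -(1 - k * k) by ring]
    exact (dvd_neg).mpr this
  rcases (Int.Prime.dvd_mul' (by norm_num) hfac) with h | h
  · left
    have hck : c ^ k = c ^ (1 : ℤ) := zpow_eq_zpow_iff_modEq.mpr (hc11 ▸ (Int.modEq_iff_dvd.mpr
      (by rw [← neg_sub]; exact dvd_neg.mpr h)))
    rw [hk, zpow_one] at hck
    have hcw : Commute c w := by
      show c * w = w * c
      conv_lhs => rw [← hck]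
      rw [mul_assoc _ w w, E.w2, mul_one]
    exact (hcw.zpow_left j).mul_left E.wd.symm
  · right
    have hck : c ^ k = c ^ (-1 : ℤ) := zpow_eq_zpow_iff_modEq.mpr (hc11 ▸ (Int.modEq_iff_dvd.mpr
      (by rw [show (-1 : ℤ) - k = -(k + 1) by ring]; exact dvd_neg.mpr h)))
    rw [hk, zpow_neg_one] at hck
    have hcw : Commute c (d * w) := by
      have e' : w * c = c⁻¹ * w := by rw [← hck, mul_assoc _ w w, E.w2, mul_one]
      have e'' : d * c⁻¹ = c * d := by rw [← hcd, ← mul_assoc, ← mul_assoc, E.d2, one_mul]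
      show c * (d * w) = d * w * c
      rw [mul_assoc d w c, e', ← mul_assoc, ← mul_assoc, e'']
    exact (hcw.zpow_left j).mul_left ((Commute.refl d).mul_right E.wd.symm)

end Cfsg.Agent.Lib.J4Pgl
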