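import Cfsg.Agent.Lib.Golay.M24
import Cfsg.Agent.Lib.J4Big.Cocode.Frame

/-!
# Finite facts: the projective line over the field of 23 elements inside the group of the code
-/

set_option autoImplicit false

namespace Cfsg.Agent.Lib.J4Pgl

open Cfsg Cfsg.Agent.Lib.Golay Cfsg.Agent.Lib.Computation
open scoped Pointwise

/-- `x ↦ x + 1`. -/
def sh : Equiv.Perm GolayPt := Equiv.optionCongr (Equiv.addRight (1 : ZMod 23))

/-- `x ↦ 4 x`. -/
def mq : Equiv.Perm GolayPt where
  toFun p := p.map (4 * ·)
  invFun p := p.map (6 * ·)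
  left_inv := by decide +kernel
  right_inv := by decide +kernel

/-- `x ↦ -x`. -/
def ng : Equiv.Perm GolayPt where
  toFun p := p.map (- ·)
  invFun p := p.map (- ·)
  left_inv := by decide +kernel
  right_inv := by decide +kernel

/-- Code of `x ↦ 4 x`. -/
def mqCode : ℕ := 980668730378935070469623699575545984

/-- Code of `x ↦ -x`. -/
def ngCode : ℕ := 956765793662171983829532039519557312

theorem mq_eq : mq = gperm mqCode :=
  eq_gperm (by decide +kernel) (by decide +kernel)

theorem ng_eq : ng = gperm ngCode :=
  eq_gperm (by decide +kernel) (by decide +kernel)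

theorem sh_mem : sh ∈ M24 := Golay.shift_mem

theorem projInv_mem' : projInv ∈ M24 := Golay.projInv_mem

theorem mq_mem : mq ∈ M24 := by
  rw [mq_eq]
  exact gperm_mem_M24 (by decide +kernel)

theorem inCode_of_smul {σ : Equiv.Perm GolayPt} (hσ : σ ∈ M24) {c : ℕ} (hc : okCode c = true)
    (he : gperm c = σ) {r : ℕ} (hr : inCode r = true) : inCode (permMask c r) = true := by
  have h := smul_mem_supports hσ (setOfMask_mem_supports hr)
  rw [← he, smul_setOfMask hc] at h
  obtain ⟨k, hk, e⟩ := mem_supports_iff.mp h
  rw [setOfMask_injOn (permMask_lt hc r) (enc_lt hk) e]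
  exact inCode_enc hk

theorem rows_inCode : (rows.all inCode) = true := by decide +kernel

theorem inM24_of_mem {σ : Equiv.Perm GolayPt} (hσ : σ ∈ M24) {c : ℕ} (hc : okCode c = true)
    (he : gperm c = σ) : inM24 c = true := by
  simp only [inM24, Bool.and_eq_true, List.all_eq_true]
  exact ⟨hc, fun r hr => inCode_of_smul hσ hc he (List.all_eq_true.mp rows_inCode r hr)⟩

/-- The negation is not in the group of the code. -/
theorem ng_notMem : ng ∉ M24 := fun h => by
  have := inM24_of_mem h (by decide +kernel) ng_eq.symm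
  revert this
  decide +kernel

/-! ### relations -/

theorem ng_sq : ng * ng = 1 := by decide +kernel

theorem projInv_sq : projInv * projInv = 1 := by decide +kernel

theorem sh_pow : sh ^ 23 = 1 := by decide +kernel

theorem sh_ne_one : sh ≠ 1 := by decide +kernel

theorem mq_pow : mq ^ 11 = 1 := by decide +kernel

theorem mq_ne_one : mq ≠ 1 := by decide +kernel

theorem mq_conj_sh : mq * sh * mq⁻¹ = sh ^ 4 := by decide +kernel

theorem projInv_conj_mq : projInv * mq * projInv⁻¹ = mq⁻¹ := by decide +kernel

theorem ng_conj_sh : ng * sh * ng⁻¹ = sh⁻¹ := by decide +kernel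

theorem ng_conj_mq : ng * mq * ng⁻¹ = mq := by decide +kernel

theorem ng_conj_projInv : ng * projInv * ng⁻¹ = projInv := by decide +kernel

theorem sh_none : sh none = none := rfl

theorem mq_none : mq none = none := rfl

theorem mq_zero : mq (some 0) = some 0 := by decide +kernel

theorem projInv_none : projInv none = some 0 := rfl

theorem projInv_zero : projInv (some 0) = none := by decide +kernel

/-! ### the centraliser of `x ↦ 4 x` on a pair -/

/-- The nonzero squares. -/
def isQR (x : ZMod 23) : Bool := Nat.beq ((x ^ 11).val) 1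

/-- The permutation commuting with `x ↦ 4 x` given by the images `a` of `1` and `b` of `5`. -/
def candF (s : Bool) (a b : ZMod 23) : GolayPt → GolayPt
  | none => if s then some 0 else none
  | some x => if x = 0 then (if s then none else some 0) else
      if isQR x then some (a * x) else some (14 * b * x)

/-- Its code. -/
def candCode (s : Bool) (a b : ZMod 23) : ℕ := packW 5 (fun i => idx (candF s a b (pt i))) 24

/-- Only the powers of `x ↦ 4 x` survive. -/
theorem cand_ok : ∀ (s : Bool) (a b : ZMod 23), a = 0 ∨ inM24 (candCode s a b) = false ∨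
    (s = false ∧ b = 5 * a ∧ isQR a = true) := by decide +kernel

theorem qr_cases : ∀ x : ZMod 23, x ≠ 0 → ∃ k : Fin 11,
    (isQR x = true ∧ x = 4 ^ (k : ℕ)) ∨ (isQR x = false ∧ x = 5 * 4 ^ (k : ℕ)) := by decide +kernel

theorem mq_pow_some : ∀ (k : ℕ) (x : ZMod 23), (mq ^ k) (some x) = some (4 ^ k * x)
  | 0, x => by simp
  | k + 1, x => by
    rw [pow_succ', Equiv.Perm.mul_apply, mq_pow_some k x, pow_succ', mul_assoc]
    rfl

theorem comm_apply {g h : Equiv.Perm GolayPt} (hc : g * h = h * g) (p : GolayPt) :
    g (h p) = h (g p) := by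
  rw [← Equiv.Perm.mul_apply, hc, Equiv.Perm.mul_apply]

theorem packW_congr {w : ℕ} {f f' : ℕ → ℕ} : ∀ {k : ℕ}, (∀ i < k, f i = f' i) →
    packW w f k = packW w f' k
  | 0, _ => rfl
  | k + 1, h => by
    rw [packW_succ, packW_succ, h k (by omega), packW_congr fun i hi => h i (by omega)]

/-- An element of the group commuting with `x ↦ 4 x` and preserving `{∞, 0}` is a power of it. -/
theorem cent_mq {g : Equiv.Perm GolayPt} (hg : g ∈ M24) (hc : g * mq = mq * g)
    (hp : (g none = none ∧ g (some 0) = some 0) ∨ (g none = some 0 ∧ g (some 0) = none)) :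
    g ∈ Subgroup.zpowers mq := by
  obtain ⟨s, hs0, hs1⟩ : ∃ s : Bool, g none = (if s then some 0 else none) ∧
      g (some 0) = (if s then none else some 0) := by
    rcases hp with ⟨a, b⟩ | ⟨a, b⟩
    · exact ⟨false, by simpa using a, by simpa using b⟩
    · exact ⟨true, by simpa using a, by simpa using b⟩
  have himg : ∀ x : ZMod 23, x ≠ 0 → ∃ a : ZMod 23, g (some x) = some a ∧ a ≠ 0 := by
    intro x hx
    have hne : g (some x) ≠ none ∧ g (some x) ≠ some 0 := by
      rcases hp with ⟨a, b⟩ | ⟨a, b⟩ <;> constructor <;> intro e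
      · exact Option.some_ne_none x (g.injective (e.trans a.symm))
      · exact hx (Option.some_injective _ (g.injective (e.trans b.symm)))
      · exact hx (Option.some_injective _ (g.injective (e.trans b.symm)))
      · exact Option.some_ne_none x (g.injective (e.trans a.symm))
    obtain ⟨a, ha⟩ := Option.ne_none_iff_exists'.mp hne.1
    exact ⟨a, ha, fun h => hne.2 (by rw [ha, h])⟩
  obtain ⟨a, ha, ha0⟩ := himg 1 (by decide +kernel)
  obtain ⟨b, hb, -⟩ := himg 5 (by decide +kernel)
  have hck : ∀ k : ℕ, g * mq ^ k = mq ^ k * g := fun k => (Commute.pow_right hc k).eq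
  have hgf : ∀ p, g p = candF s a b p := by
    rintro (_ | x)
    · exact hs0
    by_cases hx : x = 0
    · subst hx
      simpa [candF] using hs1
    obtain ⟨k, hk⟩ := qr_cases x hx
    rcases hk with ⟨h1, h2⟩ | ⟨h1, h2⟩
    · have h := comm_apply (hck k) (some 1)
      rw [mq_pow_some, mul_one, ← h2, ha, mq_pow_some] at h
      simp only [candF, if_neg hx, h1, if_true]
      rw [h, ← h2, mul_comm]
    · have h := comm_apply (hck k) (some 5)
      rw [mq_pow_some, mul_comm, ← h2, hb, mq_pow_some] at h
      simp only [candF, if_neg hx, h1]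
      rw [h, h2]
      simp only [Bool.false_eq_true, if_false, Option.some.injEq]
      have e : (14 : ZMod 23) * 5 = 1 := by decide +kernel
      linear_combination (-(4 : ZMod 23) ^ (k : ℕ) * b) * e
  set τ := indexHom.symm g with hτ
  have hcode : encodeP 24 5 τ = candCode s a b := by
    refine packW_congr fun i hi => ?_
    have e1 : indexHom τ = g := indexHom.apply_symm_apply g
    have e2 := indexHom_apply τ (pt i)
    rw [e1, hgf] at e2
    rw [dif_pos hi, e2, ptEquiv_apply, idx_pt (τ _).isLt]
    congr 2
    exact Fin.ext (idx_pt hi).symm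
  obtain ⟨hok, hdec⟩ := decodeP_encodeP (w := 5) (by norm_num : (24 : ℕ) ≤ 2 ^ 5) τ
  have hgp : gperm (encodeP 24 5 τ) = g := by
    rw [gperm, hdec]
    exact indexHom.apply_symm_apply g
  have hin := inM24_of_mem hg hok hgp
  rw [hcode] at hin
  rcases cand_ok s a b with h | h | ⟨hsf, hb5, hq⟩
  · exact absurd h ha0
  · rw [h] at hin
    exact absurd hin Bool.false_ne_true
  obtain ⟨k, hk⟩ := qr_cases a ha0
  rcases hk with ⟨-, hk⟩ | ⟨h1, -⟩
  swap
  · rw [hq] at h1
    exact absurd h1 Bool.noConfusion
  refine ⟨((k : ℕ) : ℤ), ?_⟩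
  show mq ^ ((k : ℕ) : ℤ) = g
  rw [zpow_natCast]
  refine Equiv.ext fun p => ?_
  rw [hgf]
  subst hsf hb5
  cases p with
  | none => exact Equiv.Perm.pow_apply_eq_self_of_apply_eq_self mq_none k
  | some x =>
    rw [mq_pow_some, ← hk]
    by_cases hx : x = 0
    · subst hx
      simp [candF]
    · simp only [candF, if_neg hx]
      split
      · rfl
      · rw [Option.some.injEq]
        have e : (14 : ZMod 23) * 5 = 1 := by decide +kernel
        linear_combination -(a * x) * e

end Cfsg.Agent.Lib.J4Pgl
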