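import Cfsg.Agent.Lib.J4Big.RowS5568
import Cfsg.Agent.Lib.GolayPerm.Basic
import Cfsg.Agent.Lib.J4Pgl.Perms

/-!
# Two lifts of the group of the code to the normaliser of the `2^11`
-/

set_option autoImplicit false
set_option linter.unusedSectionVars false

namespace Cfsg.Agent.Lib.J4Pgl

open Cfsg Cfsg.Agent.Lib.Golay Cfsg.Agent.Lib.J4Big Cfsg.Agent.Lib.J4Big.Cocode
open Cfsg.Agent.Lib.J4Local Cfsg.Agent.Lib.LargeExtraspecial.Basic

variable {G : Type*} [Group G] [Finite G]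

/-- A lift of the group of the code, with the second involution `ψ 1`. -/
structure Kit (z : G) (V : Subgroup G) (D : Set G) (ψ : ℕ → G) (ρ : ↥M24 →* G) : Prop where
  frame : IsFrame V D ψ
  inj : Function.Injective ρ
  rel : ∀ σ, Rel ψ (ρ σ) (σ : Equiv.Perm GolayPt)
  cover : ∀ n ∈ Subgroup.normalizer (V : Set G), ∃ v ∈ V, ∃ σ, n = v * ρ σ
  cent : ∀ g, Commute g (ψ 1) → g ∈ Subgroup.normalizer (V : Set G)
  ne : ψ 1 ≠ 1
  nconj : ¬ IsConj z (ψ 1)

theorem exists_kit [IsSimpleGroup G] (hG : ¬ IsMulCommutative G) {z p : G} (S : Setting z p)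
    (h67 : ∀ V : Subgroup G, Cfsg.IsElementaryAbelian 2 V → Nat.card ↥V = 2 ^ 11 →
      Subgroup.centralizer (V : Set G) ≤ V ∧ ∃ K : Subgroup G,
        K ≤ Subgroup.normalizer (V : Set G) ∧ K ⊓ V = ⊥ ∧
        K ⊔ V = Subgroup.normalizer (V : Set G) ∧ Cfsg.Spor.IsoM24 ↥K) :
    ∃ V D ψ ρ, Kit z V D ψ ρ := by
  have F := autFacts
  have B := Cert2.normConfig
  have Me := Cert2.meetConfig
  have hE := S.exists_fused hG F
  obtain ⟨t, ht⟩ := dV_nonempty S F B hE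
  obtain ⟨ψ, H, h1⟩ := exists_frame_vv S F B hE ht
  obtain ⟨hc, h2, -⟩ := vv_facts S F B.toBigConfig
  let V := vv S B.toBigConfig
  obtain ⟨-, K, hKN, hKV, hsup, -⟩ := h67 V
    ⟨⟨⟨fun a b => Subtype.ext (H.comm a.2 b.2)⟩⟩, fun v hv => by rw [pow_two]; exact h2 v hv⟩ hc
  let φ : ↥(Subgroup.normalizer (V : Set G)) →* ↥M24 := phiM24 S F B.toBigConfig H
  have hker : φ.ker = V.subgroupOf (Subgroup.normalizer (V : Set G)) := phiM24_ker S F B H
  let f : ↥K →* ↥M24 := φ.comp (Subgroup.inclusion hKN)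
  have hinj : Function.Injective f := (injective_iff_map_eq_one f).mpr fun k hk => by
    have h : Subgroup.inclusion hKN k ∈ φ.ker := hk
    rw [hker, Subgroup.mem_subgroupOf] at h
    exact Subtype.ext (Subgroup.mem_bot.mp (hKV ▸ (⟨k.2, h⟩ : (k : G) ∈ K ⊓ V)))
  have hcov : ∀ n ∈ Subgroup.normalizer (V : Set G), ∃ k ∈ K, ∃ v ∈ V, k * v = n := fun n hn => by
    rw [← hsup, ← SetLike.mem_coe, Subgroup.coe_mul_of_left_le_normalizer_right K V hKN] at hn
    obtain ⟨k, hk, v, hv, e⟩ := hn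
    exact ⟨k, hk, v, hv, e⟩
  have hsurj : Function.Surjective f := fun σ => by
    obtain ⟨⟨n, hn⟩, rfl⟩ := phiM24_surjective S F B hE H σ
    obtain ⟨k, hk, v, hv, rfl⟩ := hcov n hn
    refine ⟨⟨k, hk⟩, ?_⟩
    have hvker : (⟨v, Subgroup.le_normalizer hv⟩ : ↥(Subgroup.normalizer (V : Set G))) ∈ φ.ker := by
      rw [hker, Subgroup.mem_subgroupOf]; exact hv
    show φ _ = φ _
    rw [show (⟨k * v, hn⟩ : ↥(Subgroup.normalizer (V : Set G))) =
      Subgroup.inclusion hKN ⟨k, hk⟩ * ⟨v, Subgroup.le_normalizer hv⟩ from rfl, map_mul,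
      MonoidHom.mem_ker.mp hvker, mul_one]
  let e := MulEquiv.ofBijective f ⟨hinj, hsurj⟩
  refine ⟨V, dV S B.toBigConfig, ψ, K.subtype.comp e.symm.toMonoidHom,
    ⟨H, K.subtype_injective.comp e.symm.injective, fun σ => ?_, fun n hn => ?_, ?_, h1 ▸ ht.2.1,
      h1 ▸ ht.2.2⟩⟩
  · have := phiM24_rel S F B.toBigConfig H (Subgroup.inclusion hKN (e.symm σ))
    rwa [show phiM24 S F B.toBigConfig H (Subgroup.inclusion hKN (e.symm σ)) = σ from
      e.apply_symm_apply σ] at this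
  · obtain ⟨k, hk, v, hv, rfl⟩ := hcov n hn
    refine ⟨k * v * k⁻¹, (Subgroup.mem_normalizer_iff.mp (hKN hk) v).mp hv, e ⟨k, hk⟩, ?_⟩
    show k * v = k * v * k⁻¹ * (e.symm (e ⟨k, hk⟩) : G)
    rw [e.symm_apply_apply]
    group
  · intro g hg
    exact cent_t_le S F B Me hE H h1 (Subgroup.mem_centralizer_singleton_iff.mpr (h1 ▸ hg).eq)

variable {z : G} {V : Subgroup G} {D : Set G} {ψ : ℕ → G} {ρ : ↥M24 →* G}

theorem Kit.d_eq (K : Kit z V D ψ ρ) : Pt ψ none * Pt ψ (some 0) = ψ 1 := by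
  rw [K.frame.pt_none, one_mul]; rfl

theorem Kit.d_mem (K : Kit z V D ψ ρ) : ψ 1 ∈ V := K.frame.mem 1

theorem Kit.mem_rel (K : Kit z V D ψ ρ) {v : G} (hv : v ∈ V) : Rel ψ v 1 :=
  K.frame.rel_one_iff.mpr fun w hw => K.frame.comm hv hw

/-- The other lift. -/
noncomputable def Kit.twist (K : Kit z V D ψ ρ) : ↥M24 →* G where
  toFun σ := Pt ψ ((σ : Equiv.Perm GolayPt) none) * ρ σ
  map_one' := by simp [K.frame.pt_none]
  map_mul' σ τ := by
    have h := K.rel σ none ((τ : Equiv.Perm GolayPt) none)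
    rw [K.frame.pt_none, one_mul] at h
    rw [map_mul, Subgroup.coe_mul, Equiv.Perm.mul_apply,
      show Pt ψ ((σ : Equiv.Perm GolayPt) none) * ρ σ *
          (Pt ψ ((τ : Equiv.Perm GolayPt) none) * ρ τ) =
        Pt ψ ((σ : Equiv.Perm GolayPt) none) *
          (ρ σ * Pt ψ ((τ : Equiv.Perm GolayPt) none) * (ρ σ)⁻¹) * (ρ σ * ρ τ) by group, h,
      ← mul_assoc (Pt ψ ((σ : Equiv.Perm GolayPt) none)), K.frame.pt_sq, one_mul]

theorem Kit.twist_kit (K : Kit z V D ψ ρ) : Kit z V D ψ K.twist := by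
  have hrel : ∀ σ, Rel ψ (K.twist σ) (σ : Equiv.Perm GolayPt) := fun σ => by
    have := IsFrame.rel_mul (K.mem_rel (K.frame.pt_mem ((σ : Equiv.Perm GolayPt) none))) (K.rel σ)
    rwa [one_mul] at this
  refine ⟨K.frame, (injective_iff_map_eq_one _).mpr fun σ hσ => ?_, hrel, fun n hn => ?_, K.cent,
    K.ne, K.nconj⟩
  · exact Subtype.ext (K.frame.rel_unique (hrel σ) (hσ ▸ IsFrame.rel_one))
  · obtain ⟨v, hv, σ, rfl⟩ := K.cover n hn
    refine ⟨v * (Pt ψ ((σ : Equiv.Perm GolayPt) none))⁻¹, mul_mem hv (inv_mem (K.frame.pt_mem _)),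
      σ, ?_⟩
    show _ = v * _⁻¹ * (_ * ρ σ)
    group

/-- The action of `x ↦ 4 x` on the vectors. -/
def mqL : List ℕ := (List.range 11).map fun i => piV (mq (pt i))

theorem mqL_fixed : ((List.range 2048).all fun a =>
    !(Nat.beq (combine mqL a) a) || Nat.beq a 0 || Nat.beq a 1) = true := by
  decide +kernel

theorem mqL_facts : ∀ i < 11, combine mqL (2 ^ i) = piV (mq (pt i)) ∧ piV (pt i) = 2 ^ i := by
  decide +kernel

theorem Kit.mq_act (K : Kit z V D ψ ρ) : ∀ a < 2048,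
    ρ ⟨mq, mq_mem⟩ * ψ a * (ρ ⟨mq, mq_mem⟩)⁻¹ = ψ (combine mqL a) := by
  set y := ρ ⟨mq, mq_mem⟩
  have hlt : ∀ a, combine mqL a < 2048 := fun a =>
    GolayPerm.combine_lt (n := 11) mqL a (by decide +kernel)
  intro a ha
  refine (GolayPerm.xor_induction
    (P := fun a => a < 2048 ∧ y * ψ a * y⁻¹ = ψ (combine mqL a)) ?_ ?_ 11 ?_ a ha).2
  · refine ⟨by norm_num, ?_⟩
    rw [combine_zero, K.frame.psi_zero]
    group
  · rintro a b ⟨hla, iha⟩ ⟨hlb, ihb⟩
    refine ⟨Nat.xor_lt_two_pow (n := 11) hla hlb, ?_⟩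
    rw [K.frame.mul a b hla hlb, combine_xor, K.frame.mul _ _ (hlt a) (hlt b), ← iha, ← ihb]
    group
  · intro i hi
    refine ⟨Nat.pow_lt_pow_right (by norm_num) hi, ?_⟩
    obtain ⟨e1, e2⟩ := mqL_facts i hi
    have h := K.rel ⟨mq, mq_mem⟩ none (pt i)
    rw [K.frame.pt_none, one_mul] at h
    rw [← e2]
    show y * Pt ψ (pt i) * y⁻¹ = _
    rw [h, e2, e1]
    show Pt ψ (mq none) * Pt ψ (mq (pt i)) = _
    rw [mq_none, K.frame.pt_none, one_mul]
    rfl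

/-- The centraliser of the element of order eleven and the second involution. -/
theorem Kit.fix (K : Kit z V D ψ ρ) {g : G} (hgy : Commute g (ρ ⟨mq, mq_mem⟩))
    (hgd : Commute g (ψ 1)) :
    g ∈ Subgroup.zpowers (ρ ⟨mq, mq_mem⟩) ∨ g * ψ 1 ∈ Subgroup.zpowers (ρ ⟨mq, mq_mem⟩) := by
  set y := ρ ⟨mq, mq_mem⟩ with hy
  have H := K.frame
  obtain ⟨v, hv, π, rfl⟩ := K.cover g (K.cent g hgd)
  have hrel : Rel ψ (v * ρ π) (π : Equiv.Perm GolayPt) := by
    have := IsFrame.rel_mul (K.mem_rel hv) (K.rel π)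
    rwa [one_mul] at this
  have hc : (π : Equiv.Perm GolayPt) * mq = mq * (π : Equiv.Perm GolayPt) := by
    refine H.rel_unique (IsFrame.rel_mul hrel (K.rel ⟨mq, mq_mem⟩)) ?_
    rw [hgy.eq]
    exact IsFrame.rel_mul (K.rel _) hrel
  have hp : ((π : Equiv.Perm GolayPt) none = none ∧ (π : Equiv.Perm GolayPt) (some 0) = some 0) ∨
      ((π : Equiv.Perm GolayPt) none = some 0 ∧ (π : Equiv.Perm GolayPt) (some 0) = none) := by
    have h := hrel none (some 0)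
    rw [K.d_eq, mul_inv_eq_iff_eq_mul.mpr hgd.eq, ← K.d_eq] at h
    rcases H.pair_unique (Option.some_ne_none _).symm
      ((π : Equiv.Perm GolayPt).injective.ne (Option.some_ne_none _).symm) h with ⟨a, b⟩ | ⟨a, b⟩
    · exact Or.inl ⟨a.symm, b.symm⟩
    · exact Or.inr ⟨b.symm, a.symm⟩
  obtain ⟨k, hk⟩ := cent_mq π.2 hc hp
  have hπ : π = (⟨mq, mq_mem⟩ : ↥M24) ^ k := Subtype.ext (by
    rw [Subgroup.coe_zpow]; exact hk.symm)
  rw [hπ, map_zpow, ← hy] at hgy ⊢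
  have hvy : Commute v y := by
    have := hgy.mul_left (((Commute.refl y).zpow_left k).inv_left)
    rwa [mul_inv_cancel_right] at this
  obtain ⟨a, ha, rfl⟩ := H.surj v hv
  have e := K.mq_act a ha
  rw [← hy, hvy.symm.eq, mul_inv_cancel_right] at e
  have hfix := mqL_fixed
  simp only [List.all_eq_true, List.mem_range, Bool.or_eq_true, Bool.not_eq_true',
    ← Bool.not_eq_true, Nat.beq_eq] at hfix
  have hlt : combine mqL a < 2048 := GolayPerm.combine_lt (n := 11) mqL a (by decide +kernel)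
  rcases hfix a ha with (h | h) | h
  · exact absurd (H.inj _ _ hlt ha e.symm) h
  · left
    rw [h, H.psi_zero, one_mul]
    exact zpow_mem (Subgroup.mem_zpowers y) k
  · right
    subst h
    have hd : ψ 1 * ψ 1 = 1 := H.sq _ K.d_mem
    have hdy : Commute (ψ 1) (y ^ k) := hvy.zpow_right k
    rw [hdy.eq, mul_assoc, hd, mul_one]
    exact zpow_mem (Subgroup.mem_zpowers y) k

end Cfsg.Agent.Lib.J4Pgl
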