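import Cfsg.Agent.Lib.J4Five.Rows
import Cfsg.Agent.Lib.J4Seven.Rows
import Cfsg.Agent.Lib.J4Local.RowsG
import Cfsg.Agent.Lib.J4Pgl.Centralizer
import Cfsg.Agent.Lib.J4Pgl.Local

/-!
# Primes that can occur in the centraliser of the element of order eleven
-/

set_option autoImplicit false
set_option linter.unusedSectionVars false

namespace Cfsg.Agent.Lib.J4Pgl

open Cfsg Cfsg.Agent.Lib.J4Local

variable {G : Type*} [Group G] [Finite G] {z : G}

theorem card_normalizer_zpowers_conj (g a : G) :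
    Nat.card ↥(Subgroup.normalizer ((Subgroup.zpowers (g * a * g⁻¹) : Subgroup G) : Set G)) =
      Nat.card ↥(Subgroup.normalizer ((Subgroup.zpowers a : Subgroup G) : Set G)) := by
  have e : Subgroup.normalizer ((Subgroup.zpowers (g * a * g⁻¹) : Subgroup G) : Set G) =
      (Subgroup.normalizer ((Subgroup.zpowers a : Subgroup G) : Set G)).map
        (MulAut.conj g).toMonoidHom := by
    have hz : Subgroup.zpowers (g * a * g⁻¹) =
        (Subgroup.zpowers a).map (MulAut.conj g).toMonoidHom :=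
      (MonoidHom.map_zpowers (MulAut.conj g).toMonoidHom a).symm
    ext x
    rw [hz, J4Big.mem_normalizer_map, J4Big.mem_map_conj]
  rw [e, Subgroup.card_map_of_injective (MulAut.conj g).injective]

/-- An element of prime order `q` with `q² ∤ |G|` has conjugates in any subgroup of order divisible by `q`. -/
theorem exists_conj_in {q : ℕ} (hq : q.Prime) (hnd : ¬ q ^ 2 ∣ Nat.card G) {M : Subgroup G}
    (hM : q ∣ Nat.card ↥M) {o : G} (ho : orderOf o = q) :
    ∃ a ∈ M, orderOf a = q ∧ Nat.card ↥(Subgroup.normalizer ((Subgroup.zpowers o : Subgroup G) : Set G))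
      = Nat.card ↥(Subgroup.normalizer ((Subgroup.zpowers a : Subgroup G) : Set G)) := by
  haveI := Fact.mk hq
  obtain ⟨⟨a, ha⟩, hao⟩ := exists_prime_orderOf_dvd_card' (G := ↥M) q hM
  rw [Subgroup.orderOf_mk] at hao
  have hpow : ∀ b : G, orderOf b = q → IsPGroup q ↥(Subgroup.zpowers b) := fun b hb =>
    IsPGroup.of_card (n := 1) (by rw [Nat.card_zpowers, hb, pow_one])
  have hsyl : ∀ b : G, orderOf b = q → ∃ P : Sylow q G, Subgroup.zpowers b = P := by
    intro b hb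
    obtain ⟨P, hP⟩ := (hpow b hb).exists_le_sylow
    refine ⟨P, Subgroup.eq_of_le_of_card_ge hP ?_⟩
    obtain ⟨n, hn⟩ := IsPGroup.iff_card.mp P.2
    rw [Nat.card_zpowers, hb, hn]
    have : n ≤ 1 := by
      by_contra hlt
      exact hnd ((pow_dvd_pow q (by omega)).trans (hn ▸ Subgroup.card_subgroup_dvd_card _))
    calc q ^ n ≤ q ^ 1 := Nat.pow_le_pow_right hq.pos this
      _ = q := pow_one q
  obtain ⟨P, hP⟩ := hsyl a hao
  obtain ⟨P', hP'⟩ := hsyl o ho
  obtain ⟨g, hg⟩ := MulAction.exists_smul_eq G P P'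
  refine ⟨a, ha, hao, ?_⟩
  rw [← card_normalizer_zpowers_conj g a]
  congr 4
  rw [hP', ← hg, Sylow.coe_subgroup_smul,
    show Subgroup.zpowers (g * a * g⁻¹) = (Subgroup.zpowers a).map (MulAut.conj g).toMonoidHom from
      (MonoidHom.map_zpowers (MulAut.conj g).toMonoidHom a).symm, hP]
  rfl

/-- Two commuting involutions in the centraliser of `y` coincide with `d`. -/
theorem eq_d_of_commute {y d i : G} (hy : orderOf y = 11) (hd2 : d * d = 1)
    (hfix : ∀ g, Commute g y → Commute g d → g ∈ Subgroup.zpowers y ∨ g * d ∈ Subgroup.zpowers y)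
    (hi2 : i * i = 1) (hi1 : i ≠ 1) (hiy : Commute i y) (hid : Commute i d) : i = d := by
  have hp : ∀ g ∈ Subgroup.zpowers y, g * g = 1 → g = 1 := by
    rintro _ ⟨k, rfl⟩ h
    refine eq_one_of_coprime ?_ (show (y ^ k) ^ 2 = 1 by rw [pow_two]; exact h)
      (show Nat.Coprime 11 2 by norm_num)
    rw [← zpow_natCast, ← zpow_mul, mul_comm, zpow_mul, zpow_natCast, ← hy, pow_orderOf_eq_one,
      one_zpow]
  rcases hfix i hiy hid with h | h
  · exact absurd (hp i h hi2) hi1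
  · have := hp _ h (by rw [mul_assoc, ← mul_assoc d, ← hid.eq, mul_assoc i d d, hd2, mul_one, hi2])
    rw [← inv_eq_of_mul_eq_one_right hd2]
    exact eq_inv_of_mul_eq_one_left this

/-- Every involution commuting with `y` is conjugate to `d` in the centraliser of `y`. -/
theorem isConj_d {y d i : G} (hy : orderOf y = 11) (hd2 : d * d = 1) (hd1 : d ≠ 1)
    (hdy : Commute d y)
    (hfix : ∀ g, Commute g y → Commute g d → g ∈ Subgroup.zpowers y ∨ g * d ∈ Subgroup.zpowers y)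
    (hi2 : i * i = 1) (hi1 : i ≠ 1) (hiy : Commute i y) : ∃ g, Commute g y ∧ g * d * g⁻¹ = i := by
  have hdi := inv_eq_of_mul_eq_one_right hd2
  have hii := inv_eq_of_mul_eq_one_right hi2
  set u := i * d with hu
  have hdu : d * u * d⁻¹ = u⁻¹ := by
    rw [hu, mul_inv_rev, hdi, hii, mul_assoc d (i * d) d, mul_assoc i d d, hd2, mul_one]
  have hpow : ∀ k : ℕ, d * u ^ k = (u ^ k)⁻¹ * d := fun k => by
    have := (conj_pow (i := k) (a := d) (b := u))
    rw [hdu, inv_pow] at this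
    rw [this, hdi, mul_assoc, hd2, mul_one]
  rcases Nat.even_or_odd (orderOf u) with ⟨k, hk⟩ | ⟨k, hk⟩
  · have hk0 : 0 < k := by have := orderOf_pos u; omega
    set j := u ^ k with hj
    have hj2 : j * j = 1 := by rw [hj, ← pow_add, ← hk, pow_orderOf_eq_one]
    have hj1 : j ≠ 1 := fun h => by
      have := Nat.le_of_dvd hk0 (orderOf_dvd_of_pow_eq_one h)
      omega
    have hjd : Commute j d := by
      have h := hpow k
      rw [inv_eq_of_mul_eq_one_right hj2] at h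
      exact h.symm
    have e : j = d := eq_d_of_commute hy hd2 hfix hj2 hj1 ((hiy.mul_left hdy).pow_left k) hjd
    have hud : Commute u d := e ▸ (Commute.refl u).pow_right k
    have hid : Commute i d := by
      have := hud.mul_left (Commute.refl d)
      rwa [hu, mul_assoc, hd2, mul_one] at this
    exact ⟨1, Commute.one_left y, by rw [eq_d_of_commute hy hd2 hfix hi2 hi1 hiy hid]; group⟩
  · refine ⟨u ^ (k + 1), (hiy.mul_left hdy).pow_left _, ?_⟩
    have h := hpow (k + 1)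
    calc u ^ (k + 1) * d * (u ^ (k + 1))⁻¹ = u ^ (k + 1) * (d * (u ^ (k + 1))⁻¹) := by group
      _ = u ^ (k + 1) * (u ^ (k + 1) * d) := by
          congr 1
          rw [mul_inv_eq_iff_eq_mul, mul_assoc, h]
          group
      _ = u ^ orderOf u * u * d := by
          rw [← mul_assoc, ← pow_add, ← pow_succ, hk]
          congr 2
          ring
      _ = i := by rw [pow_orderOf_eq_one, one_mul, hu, mul_assoc, hd2, mul_one]

theorem card_normalizer_of_compl {V K : Subgroup G} (hK : K ≤ Subgroup.normalizer (V : Set G))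
    (hKV : K ⊓ V = ⊥) (hsup : K ⊔ V = Subgroup.normalizer (V : Set G)) :
    Nat.card ↥(Subgroup.normalizer (V : Set G)) = Nat.card ↥K * Nat.card ↥V := by
  rw [← Nat.card_prod]
  let f : ↥K × ↥V → ↥(Subgroup.normalizer (V : Set G)) := fun x =>
    ⟨x.1 * x.2, mul_mem (hK x.1.2) (Subgroup.le_normalizer x.2.2)⟩
  refine (Nat.card_eq_of_bijective f ⟨?_, ?_⟩).symm
  · rintro ⟨a, b⟩ ⟨c, e⟩ h
    have h' : (a : G) * b = c * e := congrArg Subtype.val h
    have hm : (c : G)⁻¹ * a ∈ K ⊓ V := by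
      refine Subgroup.mem_inf.mpr ⟨K.mul_mem (K.inv_mem c.2) a.2, ?_⟩
      rw [show (c : G)⁻¹ * a = e * (b : G)⁻¹ by
        rw [eq_mul_inv_iff_mul_eq, mul_assoc, h', inv_mul_cancel_left]]
      exact V.mul_mem e.2 (V.inv_mem b.2)
    rw [hKV, Subgroup.mem_bot, inv_mul_eq_one] at hm
    rw [hm] at h'
    exact Prod.ext (Subtype.ext hm.symm) (Subtype.ext (mul_left_cancel h'))
  · rintro ⟨n, hn⟩
    rw [← hsup, ← SetLike.mem_coe, Subgroup.coe_mul_of_left_le_normalizer_right K V hK] at hn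
    obtain ⟨k, hk, v, hv, rfl⟩ := hn
    exact ⟨(⟨k, hk⟩, ⟨v, hv⟩), rfl⟩

theorem prime_cases {q : ℕ} (hq : q.Prime) (h : q ∣ 2 ^ 13 * 244823040) :
    q = 2 ∨ q = 3 ∨ q = 5 ∨ q = 7 ∨ q = 11 ∨ q = 23 := by
  have hsmall : ∀ p : ℕ, p.Prime → ∀ k, q ∣ p ^ k → q = p := fun p hp k hk =>
    (Nat.prime_dvd_prime_iff_eq hq hp).mp (hq.dvd_of_dvd_pow hk)
  rw [show 2 ^ 13 * 244823040 = 2 ^ 23 * 3 ^ 3 * 5 ^ 1 * 7 ^ 1 * 11 ^ 1 * 23 ^ 1 by norm_num] at h
  rcases (Nat.Prime.dvd_mul hq).mp h with h | h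
  rcases (Nat.Prime.dvd_mul hq).mp h with h | h
  rcases (Nat.Prime.dvd_mul hq).mp h with h | h
  rcases (Nat.Prime.dvd_mul hq).mp h with h | h
  rcases (Nat.Prime.dvd_mul hq).mp h with h | h
  · exact Or.inl (hsmall 2 (by norm_num) _ h)
  · exact Or.inr (Or.inl (hsmall 3 (by norm_num) _ h))
  · exact Or.inr (Or.inr (Or.inl (hsmall 5 (by norm_num) _ h)))
  · exact Or.inr (Or.inr (Or.inr (Or.inl (hsmall 7 (by norm_num) _ h))))
  · exact Or.inr (Or.inr (Or.inr (Or.inr (Or.inl (hsmall 11 (by norm_num) _ h)))))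
  · exact Or.inr (Or.inr (Or.inr (Or.inr (Or.inr (hsmall 23 (by norm_num) _ h)))))

theorem small_primes [IsSimpleGroup G] (hG : ¬ IsMulCommutative G) (hJ : Cfsg.IsOfJankoFourTypeAt z)
    (h67 : ∀ V : Subgroup G, Cfsg.IsElementaryAbelian 2 V → Nat.card ↥V = 2 ^ 11 →
      Subgroup.centralizer (V : Set G) ≤ V ∧ ∃ K : Subgroup G,
        K ≤ Subgroup.normalizer (V : Set G) ∧ K ⊓ V = ⊥ ∧
        K ⊔ V = Subgroup.normalizer (V : Set G) ∧ Cfsg.Spor.IsoM24 ↥K)
    (h68 : ∀ V : Subgroup G, Cfsg.IsElementaryAbelian 2 V → Nat.card ↥V = 2 ^ 11 →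
      ∃ z' t : G, z' ∈ V ∧ t ∈ V ∧ t ≠ 1 ∧ IsConj z z' ∧ ¬ IsConj z t ∧
      Set.ncard {v : G | ∃ n ∈ Subgroup.normalizer (V : Set G), n * z' * n⁻¹ = v} = 1771 ∧
      Set.ncard {v : G | ∃ n ∈ Subgroup.normalizer (V : Set G), n * t * n⁻¹ = v} = 276 ∧
      Subgroup.centralizer ({t} : Set G) ≤ Subgroup.normalizer (V : Set G))
    (h69 : ∀ t : G, orderOf t = 2 → ¬ IsConj z t → ∃ V K : Subgroup G,
      V ≤ Subgroup.centralizer ({t} : Set G) ∧ K ≤ Subgroup.centralizer ({t} : Set G) ∧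
      Subgroup.centralizer ({t} : Set G) ≤ Subgroup.normalizer (V : Set G) ∧
      Cfsg.IsElementaryAbelian 2 V ∧ Nat.card ↥V = 2 ^ 11 ∧ K ⊓ V = ⊥ ∧
      K ⊔ V = Subgroup.centralizer ({t} : Set G) ∧ Nonempty (↥K ≃* MulAut ↥Cfsg.Spor.M22))
    (h23 : ∀ U : Sylow 23 G, Subgroup.centralizer ((U : Subgroup G) : Set G) = (U : Subgroup G) ∧
      Nat.card ↥(Subgroup.normalizer ((U : Subgroup G) : Set G)) = 23 * 22)
    {y d : G} (hy : orderOf y = 11) (hd2 : d * d = 1) (hd1 : d ≠ 1) (hdy : Commute d y)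
    (hdz : ¬ IsConj z d)
    (hfix : ∀ g, Commute g y → Commute g d → g ∈ Subgroup.zpowers y ∨ g * d ∈ Subgroup.zpowers y)
    (q : ℕ) (hq : q.Prime) (hq2 : q ≠ 2) (hq11 : q ≠ 11) (o i : G) (ho : orderOf o = q)
    (hoy : Commute o y) (hi2 : i * i = 1) (hi1 : i ≠ 1) (hoi : Commute o i) : False := by
  obtain ⟨p, S⟩ := Setting.of_at hJ
  have hcz := S.card_cz autFacts
  have hdvd : ∀ m, Nat.card ↥(Subgroup.normalizer ((Subgroup.zpowers o : Subgroup G) : Set G)) = m →
      11 ∣ m := by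
    rintro m rfl
    rw [← hy]
    refine Subgroup.orderOf_dvd_natCard _ (Subgroup.centralizer_le_normalizer _ ?_)
    rw [Subgroup.mem_centralizer_iff]
    rintro _ ⟨k, rfl⟩
    exact (hoy.zpow_left k).eq
  have hqN : q = 2 ∨ q = 3 ∨ q = 5 ∨ q = 7 ∨ q = 11 ∨ q = 23 := by
    refine prime_cases hq ?_
    by_cases hc : IsConj z i
    · obtain ⟨g, hg⟩ := isConj_iff.mp hc
      have hmem : g⁻¹ * o * g ∈ cz z := mem_cz.mpr (by
        have := hoi.map (MulAut.conj g⁻¹)
        simp only [MulAut.conj_apply, inv_inv] at this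
        rwa [← hg, show g⁻¹ * (g * z * g⁻¹) * g = z by group] at this)
      have h1 : orderOf (g⁻¹ * o * g) ∣ Nat.card ↥(cz z) := Subgroup.orderOf_dvd_natCard _ hmem
      have h2 := MulEquiv.orderOf_eq (MulAut.conj g⁻¹) o
      simp only [MulAut.conj_apply, inv_inv] at h2
      rw [h2, ho, hcz] at h1
      exact h1.trans ⟨92, by norm_num⟩
    · obtain ⟨V, -, -, -, hN, hVe, hVc, -, -, -⟩ :=
        h69 i (orderOf_eq_prime (by rw [pow_two, hi2]) hi1) hc
      obtain ⟨-, K', hK', hKV, hsup, ⟨e⟩⟩ := h67 V hVe hVc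
      have h1 : orderOf o ∣ Nat.card ↥(Subgroup.normalizer (V : Set G)) :=
        Subgroup.orderOf_dvd_natCard _ (hN (Subgroup.mem_centralizer_singleton_iff.mpr hoi.eq))
      rw [card_normalizer_of_compl hK' hKV hsup, Nat.card_congr e.toEquiv, Golay.card_M24, hVc,
        ho] at h1
      exact h1.trans ⟨4, by norm_num⟩
  rcases hqN with rfl | rfl | rfl | rfl | rfl | rfl
  · exact hq2 rfl
  · obtain ⟨P, hP⟩ := id hJ
    obtain ⟨g₀, rfl, S'⟩ := Setting.of_with hP
    have hN := (J4Local.sixfold autFacts hG z _ hP).2.2.2.2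
    obtain ⟨g, hg⟩ := isConj_iff.mp (J4Local.one_class autFacts hG ⟨z, hJ⟩ g₀ o S'.ord_p ho)
    have hy' : Commute (g⁻¹ * y * g) g₀ := by
      have := hoy.symm.map (MulAut.conj g⁻¹)
      simp only [MulAut.conj_apply, inv_inv] at this
      rwa [← hg, show g⁻¹ * (g * g₀ * g⁻¹) * g = g₀ by group] at this
    have hyz : Commute (g * z * g⁻¹) y := by
      have hmem : g⁻¹ * y * g ∈ Subgroup.centralizer ({z} : Set G) :=
        hN (Subgroup.centralizer_le_normalizer _ (Subgroup.mem_centralizer_iff.mpr (by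
          rintro _ ⟨k, rfl⟩; exact ((hy'.zpow_right k).eq).symm)))
      have := (Subgroup.mem_centralizer_singleton_iff.mp hmem)
      have h' : Commute z (g⁻¹ * y * g) := (show Commute (g⁻¹ * y * g) z from this).symm
      have := h'.map (MulAut.conj g)
      simpa [mul_assoc] using this
    refine hdz (IsConj.trans (isConj_iff.mpr ⟨g, rfl⟩) (IsConj.symm (isConj_iff.mpr ?_)))
    have hz2 : z * z = 1 := by rw [← pow_two, ← S.ord_z, pow_orderOf_eq_one]
    refine Exists.imp (fun _ h => h.2) (isConj_d hy hd2 hd1 hdy hfix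
      (by rw [show g * z * g⁻¹ * (g * z * g⁻¹) = g * (z * z) * g⁻¹ by group, hz2, mul_one,
        mul_inv_cancel]) (fun h => S.z_ne_one (conj_eq_one_iff.mp h)) hyz)
  · obtain ⟨Q, hQ⟩ : ∃ a, a ∈ cz z ∧ orderOf a = 5 := by
      haveI := Fact.mk hq
      obtain ⟨⟨a, ha⟩, h⟩ := exists_prime_orderOf_dvd_card' (G := ↥(cz z)) 5 (by rw [hcz]; norm_num)
      exact ⟨a, ha, by rwa [Subgroup.orderOf_mk] at h⟩
    have h25 := (J4Five.five_of_rows hG z hJ h67 h68 h69 (Subgroup.zpowers Q)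
      (by rw [Nat.card_zpowers, hQ.2]) (Subgroup.zpowers_le.mpr hQ.1)).1
    obtain ⟨a, ha, hao, hN⟩ := exists_conj_in hq (by norm_num at h25 ⊢; exact h25)
      (M := cz z) (by rw [hcz]; norm_num) ho
    obtain ⟨-, -, -, hc⟩ := J4Five.five_of_rows hG z hJ h67 h68 h69 (Subgroup.zpowers a)
      (by rw [Nat.card_zpowers, hao]) (Subgroup.zpowers_le.mpr ha)
    have := hdvd _ (hN.trans hc)
    norm_num at this
  · obtain ⟨Q, hQ⟩ : ∃ a, a ∈ cz z ∧ orderOf a = 7 := by
      haveI := Fact.mk hq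
      obtain ⟨⟨a, ha⟩, h⟩ := exists_prime_orderOf_dvd_card' (G := ↥(cz z)) 7 (by rw [hcz]; norm_num)
      exact ⟨a, ha, by rwa [Subgroup.orderOf_mk] at h⟩
    have h49 := (J4Seven.seven_of_rows hG z hJ h67 h68 h69 (Subgroup.zpowers Q)
      (by rw [Nat.card_zpowers, hQ.2]) (Subgroup.zpowers_le.mpr hQ.1)).1
    obtain ⟨a, ha, hao, hN⟩ := exists_conj_in hq (by norm_num at h49 ⊢; exact h49)
      (M := cz z) (by rw [hcz]; norm_num) ho
    obtain ⟨-, -, -, hc⟩ := J4Seven.seven_of_rows hG z hJ h67 h68 h69 (Subgroup.zpowers a)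
      (by rw [Nat.card_zpowers, hao]) (Subgroup.zpowers_le.mpr ha)
    have := hdvd _ (hN.trans hc)
    norm_num at this
  · exact hq11 rfl
  · haveI := Fact.mk hq
    obtain ⟨U, hU⟩ := (IsPGroup.of_card (p := 23) (n := 1)
      (by rw [Nat.card_zpowers, ho, pow_one]) : IsPGroup 23 ↥(Subgroup.zpowers o)).exists_le_sylow
    obtain ⟨hcU, hNU⟩ := h23 U
    have hle : Nat.card ↥(U : Subgroup G) ∣ 23 * 22 := hNU ▸ Subgroup.card_dvd_of_le Subgroup.le_normalizer
    obtain ⟨n, hn⟩ := IsPGroup.iff_card.mp U.2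
    have heq : Subgroup.zpowers o = (U : Subgroup G) := by
      refine Subgroup.eq_of_le_of_card_ge hU ?_
      rw [Nat.card_zpowers, ho, hn]
      by_contra hlt
      push Not at hlt
      have h2 : 2 ≤ n := by
        by_contra hn2
        interval_cases n <;> norm_num at hlt
      have := (pow_dvd_pow 23 h2).trans (hn ▸ hle)
      norm_num at this
    have hyU : y ∈ Subgroup.centralizer ((U : Subgroup G) : Set G) := by
      rw [← heq, Subgroup.mem_centralizer_iff]
      rintro _ ⟨k, rfl⟩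
      exact (hoy.zpow_left k).eq
    rw [hcU, ← heq] at hyU
    have := orderOf_dvd_of_mem_zpowers hyU
    rw [hy, ho] at this
    norm_num at this

end Cfsg.Agent.Lib.J4Pgl
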