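import Cfsg.Prelude.Def_Transfer
import Cfsg.Agent.Lib.J4Pgl.Small

/-!
# The element of order eleven is not central in a Sylow subgroup
-/

set_option autoImplicit false
set_option linter.unusedSectionVars false

namespace Cfsg.Agent.Lib.J4Pgl

variable {G : Type*} [Group G] [Finite G]

theorem four_not_dvd {y d : G} (hy : orderOf y = 11) (hd2 : d * d = 1) (hd1 : d ≠ 1)
    (hdy : Commute d y)
    (hfix : ∀ g, Commute g y → Commute g d → g ∈ Subgroup.zpowers y ∨ g * d ∈ Subgroup.zpowers y) :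
    ¬ 4 ∣ Nat.card ↥(Subgroup.centralizer ({y} : Set G)) := by
  intro h
  haveI := Fact.mk Nat.prime_two
  set C := Subgroup.centralizer ({y} : Set G) with hC
  obtain ⟨P, hP⟩ := Sylow.exists_subgroup_card_pow_prime (G := ↥C) 2 (n := 2) h
  letI := IsPGroup.commGroupOfCardEqPrimeSq hP
  obtain ⟨⟨a, ha⟩, hao⟩ := exists_prime_orderOf_dvd_card' (G := ↥P) 2 (by rw [hP]; norm_num)
  rw [Subgroup.orderOf_mk, ← Subgroup.orderOf_coe] at hao
  have ha2 : (a : G) * a = 1 := by rw [← pow_two, ← hao, pow_orderOf_eq_one]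
  have ha1 : (a : G) ≠ 1 := fun h => by rw [h, orderOf_one] at hao; norm_num at hao
  obtain ⟨g, hgy, hg⟩ := isConj_d hy hd2 hd1 hdy hfix ha2 ha1 (mem_cy.mp a.2)
  have hall : ∀ b : ↥P, ((b : ↥C) : G) = 1 ∨ ((b : ↥C) : G) = (a : G) := by
    intro b
    have hba : Commute ((b : ↥C) : G) (a : G) :=
      congrArg (fun x : ↥P => ((x : ↥C) : G)) (mul_comm b ⟨a, ha⟩)
    have hb4 : ((b : ↥C) : G) ^ 4 = 1 := by
      have := pow_card_eq_one' (x := b)
      rw [hP] at this
      simpa using congrArg (fun x : ↥P => ((x : ↥C) : G)) this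
    set c := g⁻¹ * ((b : ↥C) : G) * g with hc
    have hc4 : c ^ 4 = 1 := by
      have := (conj_pow (i := 4) (a := g⁻¹) (b := ((b : ↥C) : G)))
      rw [inv_inv] at this
      rw [hc, this, hb4, mul_one, inv_mul_cancel]
    have hcd : Commute c d := by
      have := hba.map (MulAut.conj g⁻¹)
      simp only [MulAut.conj_apply, inv_inv] at this
      rwa [← hg, show g⁻¹ * (g * d * g⁻¹) * g = d by group] at this
    have hpy : ∀ e ∈ Subgroup.zpowers y, e ^ 4 = 1 → e = 1 := by
      rintro _ ⟨k, rfl⟩ he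
      refine eq_one_of_coprime ?_ he (show Nat.Coprime 11 4 by norm_num)
      rw [← zpow_natCast, ← zpow_mul, mul_comm, zpow_mul, zpow_natCast, ← hy, pow_orderOf_eq_one,
        one_zpow]
    have hb : ((b : ↥C) : G) = g * c * g⁻¹ := by rw [hc]; group
    rcases hfix c ((hgy.inv_left.mul_left (mem_cy.mp b.1.2)).mul_left hgy) hcd with h | h
    · refine Or.inl ?_
      rw [hb, hpy c h hc4, mul_one, mul_inv_cancel]
    · refine Or.inr ?_
      have h1 := hpy _ h (by
        rw [hcd.mul_pow, hc4, one_mul, show (4 : ℕ) = 2 * 2 from rfl, pow_mul, show d ^ 2 = 1 by rw [pow_two, hd2], one_pow])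
      rw [hb, eq_inv_of_mul_eq_one_left h1, inv_eq_of_mul_eq_one_right hd2, hg]
  classical
  have hinj : Function.Injective fun b : ↥P => decide (((b : ↥C) : G) = 1) := by
    intro b b' e
    simp only [decide_eq_decide] at e
    refine Subtype.ext (Subtype.ext ?_)
    rcases hall b with h | h
    · rw [h, e.mp h]
    · rcases hall b' with h' | h'
      · exact absurd (h.symm.trans (e.mpr h')) ha1
      · rw [h, h']
  have := Nat.card_le_card_of_injective _ hinj
  rw [hP, Nat.card_eq_fintype_card, Fintype.card_bool] at this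
  norm_num at this

theorem sylow_eleven {y d : G} (hy : orderOf y = 11) (hd2 : d * d = 1) (hd1 : d ≠ 1)
    (hdy : Commute d y)
    (hfix : ∀ g, Commute g y → Commute g d → g ∈ Subgroup.zpowers y ∨ g * d ∈ Subgroup.zpowers y)
    (h11 : ∀ U : Sylow 11 G, Cfsg.IsExtraspecial 11 ↥(U : Subgroup G) ∧
      Nat.card ↥(U : Subgroup G) = 11 ^ 3 ∧
      Nat.card ↥(Subgroup.normalizer ((U : Subgroup G) : Set G)) = 2 ^ 4 * 3 * 5 * 11 ^ 3) :
    11 ^ 2 ∣ Nat.card ↥(Subgroup.centralizer ({y} : Set G)) ∧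
      ¬ 11 ^ 3 ∣ Nat.card ↥(Subgroup.centralizer ({y} : Set G)) := by
  haveI : Fact (Nat.Prime 11) := ⟨by norm_num⟩
  set C := Subgroup.centralizer ({y} : Set G) with hC
  have hY : IsPGroup 11 ↥(Subgroup.zpowers y) :=
    IsPGroup.of_card (n := 1) (by rw [Nat.card_zpowers, hy, pow_one])
  -- `y` is central in no Sylow subgroup
  have hnc : ∀ U : Sylow 11 G, ¬ (U : Subgroup G) ≤ C := by
    intro U hU
    obtain ⟨⟨-, hcard⟩, hUc, hN⟩ := h11 U
    have hyU : y ∈ (U : Subgroup G) := by
      have hn : Subgroup.zpowers y ≤ Subgroup.normalizer ((U : Subgroup G) : Set G) :=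
        Subgroup.zpowers_le.mpr (Subgroup.centralizer_le_normalizer _
          (Subgroup.mem_centralizer_iff.mpr fun u hu => (mem_cy.mp (hU hu)).eq))
      have hsup : IsPGroup 11 ↥((U : Subgroup G) ⊔ Subgroup.zpowers y) :=
        U.2.to_sup_of_normal_left' hY hn
      have := U.3 hsup le_sup_left
      exact this ▸ Subgroup.mem_sup_right (Subgroup.mem_zpowers y)
    have hyc : (⟨y, hyU⟩ : ↥(U : Subgroup G)) ∈ Subgroup.center ↥(U : Subgroup G) :=
      Subgroup.mem_center_iff.mpr fun u => Subtype.ext (mem_cy.mp (hU u.2)).eq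
    have hZ : (Subgroup.center ↥(U : Subgroup G)).map (U : Subgroup G).subtype =
        Subgroup.zpowers y := by
      refine (Subgroup.eq_of_le_of_card_ge (Subgroup.zpowers_le.mpr (Subgroup.mem_map.mpr ⟨_, hyc, rfl⟩)) ?_).symm
      rw [Subgroup.card_map_of_injective (Subgroup.subtype_injective _), hcard, Nat.card_zpowers]
      exact hy.ge
    have hNZ : Subgroup.normalizer ((U : Subgroup G) : Set G) ≤
        Subgroup.normalizer ((Subgroup.zpowers y : Subgroup G) : Set G) := by
      intro n hn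
      rw [← hZ]
      have key : ∀ m ∈ Subgroup.normalizer ((U : Subgroup G) : Set G),
          ∀ a ∈ (Subgroup.center ↥(U : Subgroup G)).map (U : Subgroup G).subtype,
          m * a * m⁻¹ ∈ (Subgroup.center ↥(U : Subgroup G)).map (U : Subgroup G).subtype := by
        rintro m hm _ ⟨a, ha, rfl⟩
        refine ⟨⟨m * a * m⁻¹, (Subgroup.mem_normalizer_iff.mp hm _).mp a.2⟩,
          Subgroup.mem_center_iff.mpr fun u => Subtype.ext ?_, rfl⟩
        have hu : m⁻¹ * u * m ∈ (U : Subgroup G) :=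
          (Subgroup.mem_normalizer_iff.mp hm _).mpr (by simpa [mul_assoc] using u.2)
        have h : m⁻¹ * u * m * a = a * (m⁻¹ * u * m) :=
          congrArg Subtype.val (Subgroup.mem_center_iff.mp ha ⟨_, hu⟩)
        show (u : G) * (m * a * m⁻¹) = m * a * m⁻¹ * u
        calc (u : G) * (m * a * m⁻¹) = m * (m⁻¹ * u * m * a) * m⁻¹ := by group
          _ = _ := by rw [h]; group
      rw [Subgroup.mem_normalizer_iff]
      refine fun a => ⟨key n hn a, fun h => ?_⟩
      have := key n⁻¹ (inv_mem hn) _ h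
      simpa [mul_assoc] using this
    -- the kernel of the action on the centre
    set N := Subgroup.normalizer ((U : Subgroup G) : Set G) with hNdef
    let φ : ↥N →* MulAut ↥(Subgroup.zpowers y) :=
      (Subgroup.normalizerMonoidHom (Subgroup.zpowers y)).comp (Subgroup.inclusion hNZ)
    have hker : Nat.card ↥φ.ker ∣ Nat.card ↥C := by
      have hle : φ.ker.map N.subtype ≤ C := by
        rintro _ ⟨n, hn, rfl⟩
        have h := DFunLike.congr_fun (MonoidHom.mem_ker.mp hn)
          (⟨y, Subgroup.mem_zpowers y⟩ : ↥(Subgroup.zpowers y))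
        have h' : (n : G) * y * (n : G)⁻¹ = y := congrArg Subtype.val h
        exact mem_cy.mpr (mul_inv_eq_iff_eq_mul.mp h')
      have := Subgroup.card_dvd_of_le hle
      rwa [Subgroup.card_map_of_injective N.subtype_injective] at this
    have hrange : Nat.card ↥φ.range ∣ 10 := by
      haveI : IsCyclic ↥(Subgroup.zpowers y) := inferInstance
      refine (Subgroup.card_subgroup_dvd_card φ.range).trans (dvd_of_eq ?_)
      rw [IsCyclic.card_mulAut, Nat.card_zpowers, hy]
      decide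
    have h8 : 8 ∣ Nat.card ↥φ.ker := by
      have e := Subgroup.card_mul_index φ.ker
      rw [Subgroup.index_ker, hN] at e
      have h16 : 2 ^ 4 * 3 * 5 * 11 ^ 3 ∣ Nat.card ↥φ.ker * 10 := e ▸ Nat.mul_dvd_mul_left _ hrange
      omega
    exact four_not_dvd hy hd2 hd1 hdy hfix ((show 4 ∣ 8 by norm_num).trans (h8.trans hker))
  refine ⟨?_, fun h => ?_⟩
  · obtain ⟨U, hU⟩ := hY.exists_le_sylow
    obtain ⟨⟨-, hcard⟩, hUc, -⟩ := h11 U
    set Z := (Subgroup.center ↥(U : Subgroup G)).map (U : Subgroup G).subtype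
    have hZc : Nat.card ↥Z = 11 := by
      rw [Subgroup.card_map_of_injective (Subgroup.subtype_injective _), hcard]
    have hyU : y ∈ (U : Subgroup G) := hU (Subgroup.mem_zpowers y)
    have hyZ : y ∉ Z := by
      rintro ⟨a, ha, hay⟩
      refine hnc U fun u hu => mem_cy.mpr ?_
      have := congrArg Subtype.val (Subgroup.mem_center_iff.mp ha ⟨u, hu⟩)
      rw [← hay]
      exact this
    have hA : Subgroup.zpowers y ⊔ Z ≤ (U : Subgroup G) ⊓ C := by
      refine sup_le (Subgroup.zpowers_le.mpr ⟨hyU, mem_cy.mpr (Commute.refl y)⟩) ?_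
      rintro _ ⟨a, ha, rfl⟩
      refine ⟨a.2, mem_cy.mpr ?_⟩
      exact (congrArg Subtype.val (Subgroup.mem_center_iff.mp ha ⟨y, hyU⟩)).symm
    have h1 : Nat.card ↥(Subgroup.zpowers y ⊔ Z) ∣ 11 ^ 3 :=
      hUc ▸ Subgroup.card_dvd_of_le (hA.trans inf_le_left)
    have h2 : 11 ∣ Nat.card ↥(Subgroup.zpowers y ⊔ Z) := by
      have := Subgroup.card_dvd_of_le (le_sup_left (b := Z) : Subgroup.zpowers y ≤ _)
      rwa [Nat.card_zpowers, hy] at this
    refine (?_ : 11 ^ 2 ∣ Nat.card ↥(Subgroup.zpowers y ⊔ Z)).trans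
      (Subgroup.card_dvd_of_le (hA.trans inf_le_right))
    obtain ⟨j, hj, e⟩ := (Nat.dvd_prime_pow (by norm_num : Nat.Prime 11)).mp h1
    rw [e]
    refine pow_dvd_pow 11 ?_
    by_contra hlt
    have hj1 : Nat.card ↥(Subgroup.zpowers y ⊔ Z) ≤ 11 := by
      rw [e]
      calc 11 ^ j ≤ 11 ^ 1 := Nat.pow_le_pow_right (by norm_num) (by omega)
        _ = 11 := pow_one 11
    have := Subgroup.eq_of_le_of_card_ge (le_sup_right (a := Subgroup.zpowers y) : Z ≤ _)
      (hj1.trans hZc.ge)
    exact hyZ (this ▸ Subgroup.mem_sup_left (Subgroup.mem_zpowers y))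
  · obtain ⟨P, hP⟩ := Sylow.exists_subgroup_card_pow_prime (G := ↥C) 11 (n := 3) h
    obtain ⟨U, hU⟩ := ((IsPGroup.of_card hP).map C.subtype).exists_le_sylow
    refine hnc U ?_
    have e : P.map C.subtype = (U : Subgroup G) := Subgroup.eq_of_le_of_card_ge hU (by
      rw [(h11 U).2.1, Subgroup.card_map_of_injective C.subtype_injective, hP])
    rw [← e]
    exact Subgroup.map_subtype_le P

end Cfsg.Agent.Lib.J4Pgl
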