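import Cfsg.Agent.Lib.J4Pgl.Mobius
import Cfsg.Agent.Lib.J4Pgl.Sylow

/-!
# A subgroup `PGL₂(23)` from the local structure
-/

set_option autoImplicit false
set_option linter.unusedSectionVars false

namespace Cfsg.Agent.Lib.J4Pgl

open Cfsg Cfsg.Agent.Lib.J4Big Cfsg.Agent.Lib.J4Big.Cocode Cfsg.Agent.Lib.J4Local

variable {G : Type*} [Group G] [Finite G]

/-- `sh` in the group of the code. -/
def shM : ↥M24 := ⟨sh, sh_mem⟩

/-- `x ↦ 4 x` in the group of the code. -/
def mqM : ↥M24 := ⟨mq, mq_mem⟩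

/-- `x ↦ -1/x` in the group of the code. -/
def piM : ↥M24 := ⟨projInv, projInv_mem'⟩

/-- The subgroup they generate. -/
def psl : Subgroup ↥M24 := Subgroup.closure {shM, mqM, piM}

theorem orderOf_shM : orderOf shM = 23 := by
  haveI : Fact (Nat.Prime 23) := ⟨by norm_num⟩
  exact orderOf_eq_prime (Subtype.ext (by rw [Subgroup.coe_pow]; exact sh_pow))
    (fun h => sh_ne_one (congrArg Subtype.val h))

theorem orderOf_mqM : orderOf mqM = 11 := by
  haveI : Fact (Nat.Prime 11) := ⟨by norm_num⟩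
  exact orderOf_eq_prime (Subtype.ext (by rw [Subgroup.coe_pow]; exact mq_pow))
    (fun h => mq_ne_one (congrArg Subtype.val h))

theorem piM_sq : piM * piM = 1 := Subtype.ext projInv_sq

/-- An outer involution normalising a lift of `PSL₂(23)` gives `PGL₂(23)`. -/
theorem exists_pgl (ρ : ↥M24 →* G) (hinj : Function.Injective ρ) {σ : G} (hs : σ * σ = 1)
    (hs1 : σ ≠ 1) (hsx : σ * ρ shM * σ⁻¹ = (ρ shM)⁻¹) (hsy : Commute σ (ρ mqM))
    (hsw : Commute σ (ρ piM)) :
    ∃ K : Subgroup G, Nonempty (↥K ≃* GL (Fin 2) (ZMod 23) ⧸ Subgroup.center (GL (Fin 2) (ZMod 23))) := by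
  let j : ↥M24 →* Equiv.Perm GolayPt × G := M24.subtype.prod ρ
  set Γ₀ := psl.map j with hΓ₀
  set s : Equiv.Perm GolayPt × G := (ng, σ) with hsdef
  have hs2 : s * s = 1 := Prod.ext ng_sq hs
  have hsi : s⁻¹ = s := inv_eq_of_mul_eq_one_right hs2
  set Γ := Γ₀ ⊔ Subgroup.zpowers s with hΓ
  have hgen : ∀ a ∈ psl, s * j a * s⁻¹ ∈ Γ₀ := by
    intro a ha
    induction ha using Subgroup.closure_induction with
    | mem b hb =>
      rcases hb with rfl | rfl | rfl
      · refine ⟨shM⁻¹, inv_mem (Subgroup.subset_closure (by simp)), ?_⟩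
        rw [map_inv]
        exact Prod.ext ng_conj_sh.symm hsx.symm
      · refine ⟨mqM, Subgroup.subset_closure (by simp), ?_⟩
        exact Prod.ext ng_conj_mq.symm (mul_inv_eq_iff_eq_mul.mpr hsy.eq).symm
      · refine ⟨piM, Subgroup.subset_closure (by simp), ?_⟩
        exact Prod.ext ng_conj_projInv.symm (mul_inv_eq_iff_eq_mul.mpr hsw.eq).symm
    | one => rw [map_one, mul_one, mul_inv_cancel]; exact one_mem _
    | mul b c _ _ hb hc =>
      rw [map_mul, show s * (j b * j c) * s⁻¹ = s * j b * s⁻¹ * (s * j c * s⁻¹) by group]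
      exact mul_mem hb hc
    | inv b _ hb =>
      rw [map_inv, show s * (j b)⁻¹ * s⁻¹ = (s * j b * s⁻¹)⁻¹ by group]
      exact inv_mem hb
  have hnorm : Subgroup.zpowers s ≤ Subgroup.normalizer (Γ₀ : Set (Equiv.Perm GolayPt × G)) := by
    refine Subgroup.zpowers_le.mpr (Subgroup.mem_normalizer_iff.mpr fun g => ⟨?_, fun h => ?_⟩)
    · rintro ⟨a, ha, rfl⟩
      exact hgen a ha
    · obtain ⟨a, ha, e⟩ := h
      have := hgen a ha
      rw [e, show s * (s * g * s⁻¹) * s⁻¹ = (s * s) * g * (s * s)⁻¹ by group, hs2] at this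
      simpa using this
  have hmem : ∀ g ∈ Γ, (∃ a ∈ psl, j a = g) ∨ ∃ a ∈ psl, j a * s = g := by
    intro g hg
    rw [hΓ, ← SetLike.mem_coe, Subgroup.coe_mul_of_right_le_normalizer_left Γ₀ _ hnorm] at hg
    obtain ⟨_, ⟨a, ha, rfl⟩, _, ⟨k, rfl⟩, rfl⟩ := hg
    have h2 : s ^ (2 : ℤ) = 1 := by rw [zpow_two, hs2]
    rcases Int.even_or_odd' k with ⟨m, rfl | rfl⟩
    · exact Or.inl ⟨a, ha, by simp only; rw [zpow_mul, h2, one_zpow, mul_one]⟩
    · exact Or.inr ⟨a, ha, by simp only; rw [zpow_add, zpow_mul, h2, one_zpow, one_mul, zpow_one]⟩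
  -- no element of the code group acts as the negation
  have hk1 : Function.Injective ((MonoidHom.fst (Equiv.Perm GolayPt) G).comp Γ.subtype) := by
    refine (injective_iff_map_eq_one _).mpr ?_
    rintro ⟨g, hg⟩ h1
    rcases hmem g hg with ⟨a, -, rfl⟩ | ⟨a, -, rfl⟩
    · have : a = 1 := Subtype.ext h1
      exact Subtype.ext (by show j a = 1; rw [this, map_one])
    · exfalso
      refine ng_notMem ?_
      rw [show ng = ((a : Equiv.Perm GolayPt))⁻¹ from eq_inv_of_mul_eq_one_right h1]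
      exact inv_mem a.2
  have hk2 : Function.Injective ((MonoidHom.snd (Equiv.Perm GolayPt) G).comp Γ.subtype) := by
    refine (injective_iff_map_eq_one _).mpr ?_
    rintro ⟨g, hg⟩ h1
    rcases hmem g hg with ⟨a, -, rfl⟩ | ⟨a, -, rfl⟩
    · have : a = 1 := hinj (h1.trans (map_one ρ).symm)
      exact Subtype.ext (by show j a = 1; rw [this, map_one])
    · exfalso
      have hσ : σ = ρ a⁻¹ := by rw [map_inv]; exact eq_inv_of_mul_eq_one_right h1
      set π := a⁻¹ with hπ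
      have e1 : π * shM * π⁻¹ = shM⁻¹ := hinj (by simp only [map_mul, map_inv, ← hσ]; exact hsx)
      have e2 : π * mqM = mqM * π := hinj (by simp only [map_mul, ← hσ]; exact hsy.eq)
      have e3 : π * π = 1 := hinj (by rw [map_mul, ← hσ, hs, map_one])
      have f1 : (π : Equiv.Perm GolayPt) * sh = sh⁻¹ * (π : Equiv.Perm GolayPt) :=
        congrArg Subtype.val (mul_inv_eq_iff_eq_mul.mp e1)
      have f2 : (π : Equiv.Perm GolayPt) * mq = mq * (π : Equiv.Perm GolayPt) :=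
        congrArg Subtype.val e2
      have hfix_sh : ∀ q : GolayPt, sh q = q → q = none := by decide +kernel
      have hfix_mq : ∀ q : GolayPt, mq q = q → q = none ∨ q = some 0 := by decide +kernel
      have g1 : (π : Equiv.Perm GolayPt) none = none := by
        refine hfix_sh _ ?_
        have := congrArg (fun g : Equiv.Perm GolayPt => g none) f1
        simp only [Equiv.Perm.mul_apply, sh_none] at this
        conv_lhs => rw [this]
        simp
      have g2 : (π : Equiv.Perm GolayPt) (some 0) = some 0 := by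
        refine (hfix_mq _ ?_).resolve_left fun h => Option.some_ne_none _
          ((π : Equiv.Perm GolayPt).injective (h.trans g1.symm))
        have := comm_apply f2 (some 0)
        rwa [mq_zero, eq_comm] at this
      obtain ⟨k, hk⟩ := cent_mq π.2 f2 (Or.inl ⟨g1, g2⟩)
      have hπ2 : (π : Equiv.Perm GolayPt) ^ 2 = 1 := by
        rw [pow_two]; exact congrArg Subtype.val e3
      have h11 : (π : Equiv.Perm GolayPt) ^ 11 = 1 := by
        rw [← hk]
        show (mq ^ k) ^ 11 = 1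
        rw [← zpow_natCast, ← zpow_mul, mul_comm, zpow_mul, zpow_natCast, mq_pow, one_zpow]
      have : π = 1 := Subtype.ext (eq_one_of_coprime h11 hπ2 (show Nat.Coprime 11 2 by norm_num))
      exact hs1 (by rw [hσ, this, map_one])
  have hrange : ((MonoidHom.fst (Equiv.Perm GolayPt) G).comp Γ.subtype).range = pgl := by
    rw [MonoidHom.range_eq_map, ← Subgroup.map_map, ← MonoidHom.range_eq_map, Subgroup.range_subtype,
      hΓ, Subgroup.map_sup, hΓ₀, Subgroup.map_map, psl, MonoidHom.map_closure, MonoidHom.map_zpowers,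
      Subgroup.zpowers_eq_closure, ← Subgroup.closure_union, pgl]
    congr 1
    simp [Set.image_insert_eq, j, shM, mqM, piM, hsdef]
    ext q
    simp only [Set.mem_insert_iff, Set.mem_singleton_iff]
    tauto
  exact ⟨_, ⟨(MonoidHom.ofInjective hk2).symm.trans ((MonoidHom.ofInjective hk1).trans
    ((MulEquiv.subgroupCongr hrange).trans pglEquiv.symm))⟩⟩

/-- The involution inverting the element of order 23 and centralising that of order eleven. -/
theorem exists_sigma (h23 : ∀ U : Sylow 23 G,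
      Subgroup.centralizer ((U : Subgroup G) : Set G) = (U : Subgroup G) ∧
      Nat.card ↥(Subgroup.normalizer ((U : Subgroup G) : Set G)) = 23 * 22)
    {x y : G} (hx : orderOf x = 23) (hyx : y * x * y⁻¹ = x ^ 4) :
    ∃ σ : G, σ * σ = 1 ∧ σ ≠ 1 ∧ σ * x * σ⁻¹ = x⁻¹ ∧ Commute σ y := by
  haveI : Fact (Nat.Prime 23) := ⟨by norm_num⟩
  haveI := Fact.mk Nat.prime_two
  obtain ⟨U, hU⟩ := (IsPGroup.of_card (p := 23) (n := 1)
    (by rw [Nat.card_zpowers, hx, pow_one]) : IsPGroup 23 ↥(Subgroup.zpowers x)).exists_le_sylow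
  obtain ⟨hcU, hNU⟩ := h23 U
  obtain ⟨n, hn⟩ := IsPGroup.iff_card.mp U.2
  have heq : Subgroup.zpowers x = (U : Subgroup G) := by
    refine Subgroup.eq_of_le_of_card_ge hU ?_
    rw [Nat.card_zpowers, hx, hn]
    by_contra hlt
    push Not at hlt
    have h2 : 2 ≤ n := by
      by_contra hn2
      interval_cases n <;> norm_num at hlt
    have hd : 23 ^ n ∣ 23 * 22 := hn ▸ hNU ▸ Subgroup.card_dvd_of_le Subgroup.le_normalizer
    have := (pow_dvd_pow 23 h2).trans hd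
    norm_num at this
  rw [← heq] at hcU hNU
  obtain ⟨⟨i, hi⟩, hio⟩ := exists_prime_orderOf_dvd_card'
    (G := ↥(Subgroup.normalizer ((Subgroup.zpowers x : Subgroup G) : Set G))) 2
    (by rw [hNU]; norm_num)
  rw [Subgroup.orderOf_mk] at hio
  have hi2 : i * i = 1 := by rw [← pow_two, ← hio, pow_orderOf_eq_one]
  have hii := inv_eq_of_mul_eq_one_right hi2
  obtain ⟨a, ha⟩ := (Subgroup.mem_normalizer_iff.mp hi x).mp (Subgroup.mem_zpowers x)
  simp only at ha
  have hconj : ∀ k : ℤ, i * x ^ k * i⁻¹ = x ^ (a * k) := fun k => by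
    rw [← conj_zpow, ← ha, ← zpow_mul]
  have hcent : ∀ g : G, Commute g x → g ∈ Subgroup.zpowers x := fun g hg => by
    rw [← hcU, Subgroup.mem_centralizer_iff]
    rintro _ ⟨k, rfl⟩
    exact (hg.zpow_right k).eq.symm
  have haa : x ^ (a * a) = x ^ (1 : ℤ) := by
    rw [← hconj, ha, zpow_one, show i * (i * x * i⁻¹) * i⁻¹ = i * i * x * (i * i)⁻¹ by group, hi2]
    group
  rw [zpow_eq_zpow_iff_modEq, hx] at haa
  have hinv : i * x * i⁻¹ = x⁻¹ := by
    rw [← ha, ← zpow_neg_one, zpow_eq_zpow_iff_modEq, hx]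
    have h23' : ((23 : ℕ) : ℤ) ∣ (a - 1) * (a + 1) := by
      rw [show (a - 1) * (a + 1) = -(1 - a * a) by ring]
      exact dvd_neg.mpr (Int.modEq_iff_dvd.mp haa)
    rcases Int.Prime.dvd_mul' (by norm_num) h23' with h | h
    · exfalso
      have e : i * x * i⁻¹ = x := by
        rw [← ha]
        conv_rhs => rw [← zpow_one x]
        rw [zpow_eq_zpow_iff_modEq, hx]
        exact Int.modEq_iff_dvd.mpr (by rw [← neg_sub]; exact dvd_neg.mpr h)
      have hmem := hcent i (mul_inv_eq_iff_eq_mul.mp e)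
      have := orderOf_dvd_of_mem_zpowers hmem
      rw [hio, hx] at this
      norm_num at this
    · exact Int.modEq_iff_dvd.mpr (by rw [show (-1 : ℤ) - a = -(a + 1) by ring]; exact dvd_neg.mpr h)
  have hneg : ∀ k : ℤ, i * x ^ k = x ^ (-k) * i := fun k => by
    have : i * x ^ k * i⁻¹ = x ^ (-k) := by
      rw [← conj_zpow, hinv, inv_zpow, zpow_neg]
    exact mul_inv_eq_iff_eq_mul.mp this
  have hycoset : ∀ k : ℤ, y * x ^ k * y⁻¹ = x ^ (4 * k) := fun k => by
    rw [← conj_zpow, hyx, ← zpow_natCast, ← zpow_mul]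
    rfl
  obtain ⟨m, hm⟩ : y * i * y⁻¹ * i⁻¹ ∈ Subgroup.zpowers x := by
    refine hcent _ ?_
    show y * i * y⁻¹ * i⁻¹ * x = x * (y * i * y⁻¹ * i⁻¹)
    refine mul_inv_eq_iff_eq_mul.mp ?_
    calc y * i * y⁻¹ * i⁻¹ * x * (y * i * y⁻¹ * i⁻¹)⁻¹
        = y * (i * (y⁻¹ * (i⁻¹ * x * i) * y) * i⁻¹) * y⁻¹ := by group
      _ = y * (i * (y⁻¹ * x⁻¹ * y) * i⁻¹) * y⁻¹ := by
          rw [show i⁻¹ * x * i = i * x * i⁻¹ by rw [hii], hinv]
      _ = y * (i * (x ^ (-6 : ℤ)) * i⁻¹) * y⁻¹ := by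
          congr 2
          have h6 : x⁻¹ = y * x ^ (-6 : ℤ) * y⁻¹ := by
            rw [hycoset, ← zpow_neg_one, zpow_eq_zpow_iff_modEq, hx]
            decide
          rw [h6]
          group
      _ = y * x ^ (6 : ℤ) * y⁻¹ := by rw [hneg, mul_inv_cancel_right, neg_neg]
      _ = x := by
          rw [hycoset]
          conv_rhs => rw [← zpow_one x]
          rw [zpow_eq_zpow_iff_modEq, hx]
          decide
  simp only at hm
  have hyi : y * i * y⁻¹ = x ^ m * i := by rw [hm]; group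
  refine ⟨x ^ (-8 * m) * i, ?_, ?_, ?_, ?_⟩
  · rw [show x ^ (-8 * m) * i * (x ^ (-8 * m) * i) = x ^ (-8 * m) * (i * x ^ (-8 * m)) * i by group,
      hneg, ← mul_assoc, ← zpow_add, add_neg_cancel, zpow_zero, one_mul, hi2]
  · intro h
    have hmem : i ∈ Subgroup.zpowers x := ⟨-(-8 * m), by
      simp only; rw [zpow_neg]; exact (eq_inv_of_mul_eq_one_right h).symm⟩
    have := orderOf_dvd_of_mem_zpowers hmem
    rw [hio, hx] at this
    norm_num at this
  · rw [show x ^ (-8 * m) * i * x * (x ^ (-8 * m) * i)⁻¹ = x ^ (-8 * m) * (i * x * i⁻¹) *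
      (x ^ (-8 * m))⁻¹ by group, hinv]
    group
  · show x ^ (-8 * m) * i * y = y * (x ^ (-8 * m) * i)
    refine (mul_inv_eq_iff_eq_mul.mp ?_).symm
    rw [show y * (x ^ (-8 * m) * i) * y⁻¹ = y * x ^ (-8 * m) * y⁻¹ * (y * i * y⁻¹) by group, hycoset,
      hyi, ← mul_assoc, ← zpow_add]
    congr 1
    rw [zpow_eq_zpow_iff_modEq, hx]
    refine Int.modEq_iff_dvd.mpr ⟨m, ?_⟩
    push_cast
    ring

/-- `PGL₂(23)` is a subgroup, given the neighbouring rows. -/
theorem pgl_of_rows [IsSimpleGroup G] (hG : ¬ IsMulCommutative G) (z : G)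
    (hJ : Cfsg.IsOfJankoFourTypeAt z)
    (h67 : ∀ V : Subgroup G, Cfsg.IsElementaryAbelian 2 V → Nat.card ↥V = 2 ^ 11 →
      Subgroup.centralizer (V : Set G) ≤ V ∧ ∃ K : Subgroup G,
        K ≤ Subgroup.normalizer (V : Set G) ∧ K ⊓ V = ⊥ ∧
        K ⊔ V = Subgroup.normalizer (V : Set G) ∧ Cfsg.Spor.IsoM24 ↥K)
    (h68 : ∀ V : Subgroup G, Cfsg.IsElementaryAbelian 2 V → Nat.card ↥V = 2 ^ 11 →
      ∃ z' t : G, z' ∈ V ∧ t ∈ V ∧ t ≠ 1 ∧ IsConj z z' ∧ ¬ IsConj z t ∧
      Set.ncard {v : G | ∃ n ∈ Subgroup.normalizer (V : Set G), n * z' * n⁻¹ = v} = 1771 ∧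
      Set.ncard {v : G | ∃ n ∈ Subgroup.normalizer (V : Set G), n * t * n⁻¹ = v} = 276 ∧
      Subgroup.centralizer ({t} : Set G) ≤ Subgroup.normalizer (V : Set G))
    (h69 : ∀ t : G, orderOf t = 2 → ¬ IsConj z t → ∃ V K : Subgroup G,
      V ≤ Subgroup.centralizer ({t} : Set G) ∧ K ≤ Subgroup.centralizer ({t} : Set G) ∧
      Subgroup.centralizer ({t} : Set G) ≤ Subgroup.normalizer (V : Set G) ∧
      Cfsg.IsElementaryAbelian 2 V ∧ Nat.card ↥V = 2 ^ 11 ∧ K ⊓ V = ⊥ ∧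
      K ⊔ V = Subgroup.centralizer ({t} : Set G) ∧ Nonempty (↥K ≃* MulAut ↥Cfsg.Spor.M22))
    (h11 : ∀ U : Sylow 11 G, Cfsg.IsExtraspecial 11 ↥(U : Subgroup G) ∧
      Nat.card ↥(U : Subgroup G) = 11 ^ 3 ∧
      Nat.card ↥(Subgroup.normalizer ((U : Subgroup G) : Set G)) = 2 ^ 4 * 3 * 5 * 11 ^ 3)
    (h23 : ∀ U : Sylow 23 G, Subgroup.centralizer ((U : Subgroup G) : Set G) = (U : Subgroup G) ∧
      Nat.card ↥(Subgroup.normalizer ((U : Subgroup G) : Set G)) = 23 * 22) :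
    ∃ K : Subgroup G, Nonempty (↥K ≃* GL (Fin 2) (ZMod 23) ⧸ Subgroup.center (GL (Fin 2) (ZMod 23))) := by
  obtain ⟨p, S⟩ := Setting.of_at hJ
  obtain ⟨V, D, ψ, ρ, K⟩ := exists_kit hG S h67
  have hd2 : ψ 1 * ψ 1 = 1 := K.frame.sq _ K.d_mem
  have hconj : ∀ a b : ↥M24, ρ a * ρ b * (ρ a)⁻¹ = ρ (a * b * a⁻¹) := fun a b => by
    rw [map_mul, map_mul, map_inv]
  have hrelc : ∀ a : ↥M24, ((a : Equiv.Perm GolayPt) none = none ∧
        (a : Equiv.Perm GolayPt) (some 0) = some 0) ∨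
      ((a : Equiv.Perm GolayPt) none = some 0 ∧ (a : Equiv.Perm GolayPt) (some 0) = none) →
      Commute (ρ a) (ψ 1) := by
    intro a ha
    have h := K.rel a none (some 0)
    have e : Pt ψ ((a : Equiv.Perm GolayPt) none) * Pt ψ ((a : Equiv.Perm GolayPt) (some 0)) =
        ψ 1 := by
      rcases ha with ⟨e1, e2⟩ | ⟨e1, e2⟩ <;> rw [e1, e2]
      · exact K.d_eq
      · rw [K.frame.comm (K.frame.pt_mem _) (K.frame.pt_mem _), K.d_eq]
    rw [K.d_eq, e] at h
    exact mul_inv_eq_iff_eq_mul.mp h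
  have hdy : Commute (ψ 1) (ρ mqM) := (hrelc mqM (Or.inl ⟨mq_none, mq_zero⟩)).symm
  have hdw : Commute (ψ 1) (ρ piM) := (hrelc piM (Or.inr ⟨projInv_none, projInv_zero⟩)).symm
  have hy : orderOf (ρ mqM) = 11 := (orderOf_injective ρ K.inj mqM).trans orderOf_mqM
  have hfix : ∀ g, Commute g (ρ mqM) → Commute g (ψ 1) →
      g ∈ Subgroup.zpowers (ρ mqM) ∨ g * ψ 1 ∈ Subgroup.zpowers (ρ mqM) := fun g a b => K.fix a b
  have hw2 : ρ piM * ρ piM = 1 := by rw [← map_mul, piM_sq, map_one]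
  have hwy : ρ piM * ρ mqM * ρ piM = (ρ mqM)⁻¹ := by
    have e : piM * mqM * piM⁻¹ = mqM⁻¹ := Subtype.ext projInv_conj_mq
    have := hconj piM mqM
    rwa [e, map_inv, inv_eq_of_mul_eq_one_right hw2] at this
  have E : Eleven (ρ mqM) (ψ 1) (ρ piM) :=
    ⟨hy, hd2, K.ne, hdy, hw2, hwy, hdw.symm, hfix, sylow_eleven hy hd2 K.ne hdy hfix h11,
      small_primes hG hJ h67 h68 h69 h23 hy hd2 K.ne hdy K.nconj hfix⟩
  have hyx : ρ mqM * ρ shM * (ρ mqM)⁻¹ = ρ shM ^ 4 := by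
    rw [hconj, ← map_pow]
    congr 1
    exact Subtype.ext (by rw [Subgroup.coe_mul, Subgroup.coe_mul, Subgroup.coe_inv, Subgroup.coe_pow]; exact mq_conj_sh)
  obtain ⟨σ, hs, hs1, hsx, hsy⟩ :=
    exists_sigma h23 ((orderOf_injective ρ K.inj shM).trans orderOf_shM) hyx
  have t1 : K.twist shM = ρ shM := by
    show Pt ψ (sh none) * ρ shM = ρ shM
    rw [sh_none, K.frame.pt_none, one_mul]
  have t2 : K.twist mqM = ρ mqM := by
    show Pt ψ (mq none) * ρ mqM = ρ mqM
    rw [mq_none, K.frame.pt_none, one_mul]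
  have t3 : K.twist piM = ψ 1 * ρ piM := by
    show Pt ψ (projInv none) * ρ piM = _
    rw [projInv_none]
    rfl
  rcases E.commute_or hs hs1 hsy with h | h
  · exact exists_pgl ρ K.inj hs hs1 hsx hsy h
  · exact exists_pgl K.twist K.twist_kit.inj hs hs1 (by rw [t1]; exact hsx) (by rw [t2]; exact hsy)
      (by rw [t3]; exact h)

end Cfsg.Agent.Lib.J4Pgl
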