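import Mathlib.Topology.Compactification.OnePoint.ProjectiveLine
import Cfsg.Agent.Lib.J4Pgl.Perms

/-!
# `PGL₂(23)` as a group of permutations of the 24 points
-/

set_option autoImplicit false

namespace Cfsg.Agent.Lib.J4Pgl

open Cfsg

instance fact23 : Fact (Nat.Prime 23) := ⟨by norm_num⟩

local notation "F23" => ZMod 23
local notation "GL2" => GL (Fin 2) (ZMod 23)

/-- The fractional linear action. -/
noncomputable def mob : GL2 →* Equiv.Perm GolayPt :=
  MulAction.toPermHom GL2 (OnePoint F23)

theorem mob_none (g : GL2) :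
    mob g none = if g 1 0 = 0 then none else some (g 0 0 / g 1 0) :=
  OnePoint.smul_infty_eq_ite g

theorem mob_some (g : GL2) (k : F23) :
    mob g (some k) = if g 1 0 * k + g 1 1 = 0 then none
      else some ((g 0 0 * k + g 0 1) / (g 1 0 * k + g 1 1)) :=
  OnePoint.smul_some_eq_ite (g := g) (k := k)

/-- The group generated by the four permutations. -/
def pgl : Subgroup (Equiv.Perm GolayPt) := Subgroup.closure {sh, mq, projInv, ng}

theorem gens_mem : sh ∈ pgl ∧ mq ∈ pgl ∧ projInv ∈ pgl ∧ ng ∈ pgl :=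
  ⟨Subgroup.subset_closure (by simp), Subgroup.subset_closure (by simp),
    Subgroup.subset_closure (by simp), Subgroup.subset_closure (by simp)⟩

/-- The matrix with given entries. -/
noncomputable def mkGL (a b c d : F23) (h : a * d - b * c ≠ 0) : GL2 :=
  Matrix.GeneralLinearGroup.mkOfDetNeZero !![a, b; c, d] (by rwa [Matrix.det_fin_two_of])

theorem mkGL_apply (a b c d : F23) (h : a * d - b * c ≠ 0) :
    mkGL a b c d h 0 0 = a ∧ mkGL a b c d h 0 1 = b ∧ mkGL a b c d h 1 0 = c ∧
      mkGL a b c d h 1 1 = d := by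
  simp [mkGL]

theorem sh_mem_range : sh ∈ mob.range := by
  obtain ⟨e1, e2, e3, e4⟩ := mkGL_apply 1 1 0 1 (by decide +kernel)
  refine ⟨mkGL 1 1 0 1 (by decide +kernel), Equiv.ext fun p => ?_⟩
  cases p with
  | none => rw [mob_none, e3, if_pos rfl, sh_none]
  | some x =>
    rw [mob_some, e1, e2, e3, e4, zero_mul, zero_add, if_neg (by decide +kernel), one_mul, div_one]
    rfl

theorem mq_mem_range : mq ∈ mob.range := by
  obtain ⟨e1, e2, e3, e4⟩ := mkGL_apply 4 0 0 1 (by decide +kernel)
  refine ⟨mkGL 4 0 0 1 (by decide +kernel), Equiv.ext fun p => ?_⟩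
  cases p with
  | none => rw [mob_none, e3, if_pos rfl, mq_none]
  | some x =>
    rw [mob_some, e1, e2, e3, e4, zero_mul, zero_add, if_neg (by decide +kernel), add_zero, div_one]
    rfl

theorem ng_mem_range : ng ∈ mob.range := by
  obtain ⟨e1, e2, e3, e4⟩ := mkGL_apply (-1) 0 0 1 (by decide +kernel)
  refine ⟨mkGL (-1) 0 0 1 (by decide +kernel), Equiv.ext fun p => ?_⟩
  cases p with
  | none => rw [mob_none, e3, if_pos rfl]; rfl
  | some x =>
    rw [mob_some, e1, e2, e3, e4, zero_mul, zero_add, if_neg (by decide +kernel), add_zero, div_one,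
      neg_one_mul]
    rfl

theorem inv_eq_pow : ∀ x : F23, x⁻¹ = x ^ 21 := by decide +kernel

theorem projInv_mem_range : projInv ∈ mob.range := by
  obtain ⟨e1, e2, e3, e4⟩ := mkGL_apply 0 (-1) 1 0 (by decide +kernel)
  refine ⟨mkGL 0 (-1) 1 0 (by decide +kernel), Equiv.ext fun p => ?_⟩
  cases p with
  | none => rw [mob_none, e1, e3, if_neg (by decide +kernel), zero_div, projInv_none]
  | some x =>
    rw [mob_some, e1, e2, e3, e4, zero_mul, zero_add, one_mul, add_zero]
    by_cases hx : x = 0
    · subst hx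
      rw [if_pos rfl, projInv_zero]
    · rw [if_neg hx, neg_div, one_div, inv_eq_pow]
      show _ = projInvFun (some x)
      simp [projInvFun, hx]

theorem sh_pow_some : ∀ (n : ℕ) (x : F23), (sh ^ n) (some x) = some (x + n)
  | 0, x => by simp
  | n + 1, x => by
    rw [pow_succ', Equiv.Perm.mul_apply, sh_pow_some n x, Nat.cast_succ, ← add_assoc]
    rfl

theorem unit_cases : ∀ c : F23, c ≠ 0 → ∃ k : Fin 11, c = 4 ^ (k : ℕ) ∨ c = -4 ^ (k : ℕ) := by
  decide +kernel

theorem mob_mem_of_fix {g : GL2} (h : g 1 0 = 0) : mob g ∈ pgl := by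
  have hdet := g.det_ne_zero
  rw [Matrix.det_fin_two, h, mul_zero, sub_zero] at hdet
  have ha : g 0 0 ≠ 0 := left_ne_zero_of_mul hdet
  have hd : g 1 1 ≠ 0 := right_ne_zero_of_mul hdet
  obtain ⟨hsh, hmq, -, hng⟩ := gens_mem
  obtain ⟨k, hk⟩ := unit_cases (g 0 0 / g 1 1) (div_ne_zero ha hd)
  have hx : ∀ x : F23, (g 0 0 * x + g 0 1) / g 1 1 =
      g 0 0 / g 1 1 * x + (((g 0 1 / g 1 1).val : ℕ) : F23) := fun x => by
    rw [ZMod.natCast_zmod_val, add_div, mul_div_right_comm]
  rcases hk with hk | hk
  · rw [show mob g = sh ^ (g 0 1 / g 1 1).val * mq ^ (k : ℕ) from Equiv.ext fun p => ?_]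
    · exact mul_mem (pow_mem hsh _) (pow_mem hmq _)
    cases p with
    | none =>
      rw [mob_none, if_pos h, Equiv.Perm.mul_apply,
        Equiv.Perm.pow_apply_eq_self_of_apply_eq_self mq_none,
        Equiv.Perm.pow_apply_eq_self_of_apply_eq_self sh_none]
    | some x =>
      rw [mob_some, h, zero_mul, zero_add, if_neg hd, Equiv.Perm.mul_apply, mq_pow_some,
        sh_pow_some, hx, hk]
  · rw [show mob g = sh ^ (g 0 1 / g 1 1).val * ng * mq ^ (k : ℕ) from Equiv.ext fun p => ?_]
    · exact mul_mem (mul_mem (pow_mem hsh _) hng) (pow_mem hmq _)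
    cases p with
    | none =>
      rw [mob_none, if_pos h, Equiv.Perm.mul_apply, Equiv.Perm.mul_apply,
        Equiv.Perm.pow_apply_eq_self_of_apply_eq_self mq_none]
      exact (Equiv.Perm.pow_apply_eq_self_of_apply_eq_self sh_none _).symm
    | some x =>
      rw [mob_some, h, zero_mul, zero_add, if_neg hd, Equiv.Perm.mul_apply, Equiv.Perm.mul_apply,
        mq_pow_some, show ng (some (4 ^ (k : ℕ) * x)) = some (-(4 ^ (k : ℕ) * x)) from rfl,
        sh_pow_some, hx, hk, neg_mul]

theorem mob_range : mob.range = pgl := by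
  refine le_antisymm ?_ ((Subgroup.closure_le _).mpr ?_)
  · rintro _ ⟨g, rfl⟩
    by_cases h : g 1 0 = 0
    · exact mob_mem_of_fix h
    obtain ⟨hsh, -, hpi, -⟩ := gens_mem
    obtain ⟨u, hu⟩ := projInv_mem_range
    obtain ⟨t, ht⟩ := sh_mem_range
    set n := (-(g 0 0 / g 1 0)).val
    have hmem : mob (u * t ^ n * g) ∈ pgl := by
      refine mob_mem_of_fix ?_
      by_contra hne
      have e : mob (u * t ^ n * g) none = none := by
        rw [map_mul, map_mul, map_pow, hu, ht, Equiv.Perm.mul_apply, Equiv.Perm.mul_apply, mob_none,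
          if_neg h, sh_pow_some, ZMod.natCast_zmod_val, add_neg_cancel, projInv_zero]
      rw [mob_none, if_neg hne] at e
      exact Option.some_ne_none _ e
    rw [map_mul, map_mul, map_pow, hu, ht] at hmem
    exact (Subgroup.mul_mem_cancel_left _ (mul_mem hpi (pow_mem hsh n))).mp hmem
  · rintro x (rfl | rfl | rfl | rfl)
    exacts [sh_mem_range, mq_mem_range, projInv_mem_range, ng_mem_range]

theorem mob_ker : mob.ker = Subgroup.center GL2 := by
  ext g
  rw [MonoidHom.mem_ker]
  constructor
  · intro h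
    have h0 : mob g none = none := by rw [h]; rfl
    have h10 : g 1 0 = 0 := by
      by_contra hne
      rw [mob_none, if_neg hne] at h0
      exact Option.some_ne_none _ h0
    have hdet := g.det_ne_zero
    rw [Matrix.det_fin_two, h10, mul_zero, sub_zero] at hdet
    have hd : g 1 1 ≠ 0 := right_ne_zero_of_mul hdet
    have hk : ∀ k : F23, (g 0 0 * k + g 0 1) / g 1 1 = k := fun k => by
      have := mob_some g k
      rw [h, h10, zero_mul, zero_add, if_neg hd] at this
      exact (Option.some_injective _ this).symm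
    have h01 : g 0 1 = 0 := by
      have := hk 0
      rw [mul_zero, zero_add, div_eq_zero_iff] at this
      exact this.resolve_right hd
    have h00 : g 0 0 = g 1 1 := by
      have := hk 1
      rwa [mul_one, h01, add_zero, div_eq_one_iff_eq hd] at this
    rw [Subgroup.mem_center_iff]
    intro m
    ext i j
    fin_cases i <;> fin_cases j <;>
      simp [Matrix.mul_apply, Fin.sum_univ_two, h10, h01, h00, mul_comm]
  · intro h
    rw [Subgroup.mem_center_iff] at h
    have a := congrArg (fun y : GL2 => y 0 0) (h (mkGL 1 1 0 1 (by decide +kernel)))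
    have b := congrArg (fun y : GL2 => y 0 1) (h (mkGL 1 1 0 1 (by decide +kernel)))
    have c := congrArg (fun y : GL2 => y 0 0) (h (mkGL 1 0 1 1 (by decide +kernel)))
    simp [mkGL, Matrix.mul_apply, Fin.sum_univ_two] at a b c
    have hdet := g.det_ne_zero
    rw [Matrix.det_fin_two, a, mul_zero, sub_zero] at hdet
    have hd : g 1 1 ≠ 0 := right_ne_zero_of_mul hdet
    have h00 : g 0 0 = g 1 1 := by linear_combination -b
    refine Equiv.ext fun p => ?_
    cases p with
    | none => rw [mob_none, if_pos a]; rfl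
    | some x =>
      rw [mob_some, a, zero_mul, zero_add, if_neg hd, c, add_zero, h00,
        mul_div_assoc, mul_comm, div_mul_cancel₀ _ hd]
      rfl

/-- `PGL₂(23)` is the permutation group. -/
noncomputable def pglEquiv : GL2 ⧸ Subgroup.center GL2 ≃* ↥pgl :=
  ((QuotientGroup.quotientMulEquivOfEq mob_ker.symm).trans
    (QuotientGroup.quotientKerEquivRange mob)).trans (MulEquiv.subgroupCongr mob_range)

end Cfsg.Agent.Lib.J4Pgl
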